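import Cfsg.Agent.KFacts.ON.Estar
import Cfsg.Agent.OddHalf.D8.Sheet

/-!
# Automorphisms of the presented O'Nan group

`aut_cases`: every automorphism is inner, or inner times `E0`, the automorphism of the second tuple.
`autJ`: automorphisms trivial on `J` are induced by `⟨v⟩`. `basic`: the basic sheet.
-/

set_option autoImplicit false
set_option maxRecDepth 100000

namespace Cfsg.Agent.KFacts.ON.Aut

open Subgroup
open Cfsg.Spor (ON)
open Cfsg.Spor.ON (Gen)
open Cfsg.Agent.SporadicB.ON45Word (on LW)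
open Cfsg.Agent.KFacts.MulSpor.ON (w w_append w_one w_cons w_iw iw eqw cj mats)
open Cfsg.Agent.KFacts.ON.Cent (hON finite_ON cen card_K0 card_cent)
open Cfsg.Agent.KFacts.ON.Words Cfsg.Agent.KFacts.ON.Struct Cfsg.Agent.KFacts.ON.Qs Cfsg.Agent.KFacts.ON.Estar
open Cfsg.Agent.ONType
open Cfsg.Agent.ONType.TupK (K0)
open Cfsg.Agent.ONType.TupRow (gJ eqJ neJ eqJ_spec neJ_spec rowNe)
open Cfsg.Agent.ONType.TupT0 (T0 exists_T0)
open Cfsg.Agent.ONType.SecondTuple (d2 e2 g2)
open Cfsg.Agent.SporadicRecognition.CosetCert (ev ev_nil ev_cons ev_append)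
open scoped commutatorElement

/-- two words are different -/
theorem ne_w (l m : List Gen) (h : rowNe (mats l) (mats m) = true) : w l ≠ w m :=
  TupRow.ne_of_rowNe (LW.word l) (LW.word m) h

theorem aut_ext {α β : MulAut ON} (h : ∀ x : Gen, α (on x) = β (on x)) : α = β := by
  have h1 : α.toMonoidHom = β.toMonoidHom := by
    apply PresentedGroup.ext
    intro x
    exact h x
  ext x
  exact DFunLike.congr_fun h1 x

theorem wpow (l : List Gen) : ∀ n : ℕ, w l ^ n = w ((List.replicate n l).flatten)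
  | 0 => by simp [w]
  | n + 1 => by
    rw [pow_succ', wpow l n, List.replicate_succ, List.flatten_cons, w_append]

/-- an automorphism fixing `a, …, f` is trivial -/
theorem aut_eq_one {α : MulAut ON} (ha : α (on .a) = on .a) (hb : α (on .b) = on .b) (hc : α (on .c) = on .c)
    (hd : α (on .d) = on .d) (he : α (on .e) = on .e) (hf : α (on .f) = on .f) : α = 1 := by
  obtain ⟨x, hx⟩ : ∃ x, x = α (on .g) := ⟨_, rfl⟩
  have hga : on .g * on .a = on .a * on .g := TupT0.comm_a hs TupT0.g_mem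
  have hgf : on .g * on .f = on .f * on .g := TupT0.comm_f hs TupT0.g_mem
  have h1 := congrArg α hga
  have h2 := congrArg α hgf
  rw [map_mul, map_mul, ha, ← hx] at h1
  rw [map_mul, map_mul, hf, ← hx] at h2
  have hT : x ∈ T0 := TupK.mem_T0 hs (mem_K0.2 h2) h1
  have h3 : x * x = on .a * on .f := by
    have h := congrArg α (TupT0.gg_eq hs)
    rw [ev_cons, ev_cons, ev_nil, mul_one, map_mul, map_mul, ha, hf] at h
    rw [hx]; exact h
  have h4 : (on .b * on .c * (on .d * x)) ^ 5 = 1 := by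
    have h := congrArg α bcdg5
    rw [map_pow, map_mul, map_mul, map_mul, hb, hc, hd, map_one, ← hx] at h
    exact h
  have h5 : x * on .e * (on .d * x * on .d) * (on .e * x * on .e) * (on .d * x * on .d) = 1 := by
    have h : w [.g, .e, .d, .g, .d, .e, .g, .e, .d, .g, .d] = 1 :=
      Words.eq _ [] (by decide +kernel)
    have h' : on .g * on .e * (on .d * on .g * on .d) * (on .e * on .g * on .e) * (on .d * on .g * on .d) = 1 := by
      simpa [w, mul_assoc] using h
    have h'' := congrArg α h'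
    simp only [map_mul, map_one, he, hd, ← hx] at h''
    exact h''
  have hQ : TupCover.allLive TupTData.C (fun _ w => neJ (w ++ w) [5, 7] ||
      neJ (6 :: 0 :: 1 :: (w ++ 6 :: 0 :: 1 :: (w ++ 6 :: 0 :: 1 :: (w ++ 6 :: 0 :: 1 :: (w ++
        6 :: 0 :: 1 :: w))))) [] || eqJ w [2] || eqJ w [0, 3, 0]) = true := by decide +kernel
  obtain ⟨l, -, h6, h7⟩ := exists_T0 hs hQ hT
  have key : x = on .g ∨ x = on .c * (on .g)⁻¹ * on .c := by
    rcases Bool.or_eq_true_iff.1 h6 with h6 | h6
    · rcases Bool.or_eq_true_iff.1 h6 with h6 | h6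
      · exfalso
        rcases Bool.or_eq_true_iff.1 h6 with h6 | h6
        · apply neJ_spec h6
          rw [ev_append, ← h7, ev_cons, ev_cons, ev_nil, mul_one]
          exact h3
        · apply neJ_spec h6
          simp only [ev_cons, ev_append, ev_nil, ← h7]
          have h8 : (on .b * on .c * (on .d * x)) ^ 5 = on .b * (on .c * (on .d * (x * (on .b * (on .c * (on .d *
              (x * (on .b * (on .c * (on .d * (x * (on .b * (on .c * (on .d * (x * (on .b * (on .c *
              (on .d * x)))))))))))))))))) := by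
            simp only [pow_succ, pow_zero, one_mul, mul_assoc]
          rw [h8] at h4
          exact h4
      · left
        have := eqJ_spec hs h6
        rw [← h7, ev_cons, ev_nil, mul_one] at this
        exact this
    · right
      have := eqJ_spec hs h6
      rw [← h7, ev_cons, ev_cons, ev_cons, ev_nil, mul_one, ← mul_assoc] at this
      exact this
  have hg : x = on .g := by
    rcases key with h | h
    · exact h
    · exfalso
      have hgi : (on .g)⁻¹ = w [.g, .g, .g] := by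
        have h8 : w (iw [.g]) = (w [.g])⁻¹ := w_iw hs _
        rw [wg] at h8
        exact h8.symm
      have h9 : x = w [.c, .g, .g, .g, .c] := by
        rw [h, hgi, ← wc, ← w_append, ← w_append]; rfl
      have h10 : w ([.c, .g, .g, .g, .c] ++ [.e] ++ ([.d] ++ [.c, .g, .g, .g, .c] ++ [.d]) ++
          ([.e] ++ [.c, .g, .g, .g, .c] ++ [.e]) ++ ([.d] ++ [.c, .g, .g, .g, .c] ++ [.d])) ≠ w [] :=
        ne_w _ _ (by decide +kernel)
      apply h10
      simp only [w_append, wd, we]
      rw [← h9, h5]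
      rfl
  apply aut_ext
  intro y
  cases y
  · show α (on .g) = on .g
    rw [← hx]; exact hg
  · exact ha
  · exact hb
  · exact hc
  · exact hd
  · exact he
  · exact hf

/-! ### The outer automorphism -/

/-- the automorphism of the second tuple -/
noncomputable def E0 : MulAut ON := Classical.choose (SecondTuple.exists_aut hON)

theorem E0_on (x : Gen) : E0 (on x) = SporadicB.ONHom.fam (on .a) (on .b) (on .c) d2 e2 (on .f) g2 x :=
  Classical.choose_spec (SecondTuple.exists_aut hON) x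

theorem E0_a : E0 (on .a) = on .a := E0_on .a
theorem E0_b : E0 (on .b) = on .b := E0_on .b
theorem E0_c : E0 (on .c) = on .c := E0_on .c
theorem E0_d : E0 (on .d) = d2 := E0_on .d
theorem E0_e : E0 (on .e) = e2 := E0_on .e
theorem E0_f : E0 (on .f) = on .f := E0_on .f
theorem E0_g : E0 (on .g) = g2 := E0_on .g

theorem E0_dg : E0 (on .d * on .g) ≠ on .d * on .g := by
  rw [map_mul, E0_d, E0_g]
  have h : w ([.g, .d, .g, .g, .g] ++ [.c, .g, .c, .d, .g, .d, .g]) ≠ w [.d, .g] :=
    ne_w _ _ (by decide +kernel)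
  intro h'
  apply h
  rw [w_append, w_cons .d [.g], w_one]
  exact h'

/-! ### The Sylow subgroup -/

theorem index_S : (TupS.S hs).index = 900030285 := by
  have h2 := Subgroup.card_mul_index (TupS.S hs)
  rw [card_S, hON.2] at h2
  omega

/-- the Sylow 2-subgroup `S` of the O'Nan group -/
noncomputable def syl : Sylow 2 ON :=
  haveI : Fact (Nat.Prime 2) := ⟨Nat.prime_two⟩
  (IsPGroup.of_card (n := 9) (by rw [card_S]; norm_num) : IsPGroup 2 (TupS.S hs)).toSylow (by
    rw [index_S]; norm_num)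

theorem mem_syl {x : ON} : x ∈ syl ↔ x ∈ TupS.S hs := Iff.rfl

theorem S_comm {x : ON} (hx : x ∈ TupS.S hs) : x * on .f = on .f * x := mem_K0.1 (TupS.S_le hs hx)

theorem center_S {y : ON} (hy : y ∈ TupS.S hs) (h : ∀ x ∈ TupS.S hs, x * y = y * x) : y = 1 ∨ y = on .f := by
  have h1 : y ∈ T0 := TupK.mem_T0 hs (TupS.S_le hs hy) (h _ (T0_le_S (TupT0.a_mem hs))).symm
  obtain ⟨l, hl, h2⟩ := TupT0.comm_cd hs h1 (h _ (T0_le_S TupT0.c_mem)).symm (h _ (T0_le_S TupT0.d_mem)).symm
  have h3 := h _ sS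
  have hne : on .a * on .f ≠ on .a := by
    intro h4
    apply f_ne_one
    exact mul_left_cancel (h4.trans (mul_one _).symm)
  simp only [TupT0.exV, List.mem_cons, List.not_mem_nil, or_false] at hl
  rcases hl with rfl | rfl | rfl | rfl
  · left; rw [h2, ev_nil]
  · exfalso
    rw [TupT0.gg_eq hs] at h2
    rw [h2] at h3
    have h4 := sa
    have hsf : s * on .f = on .f * s := S_comm sS
    have h5 : s * on .a = on .a * on .f * s := mul_inv_eq_iff_eq_mul.1 h4
    have h6 : s * (on .a * on .f) = on .a * s := by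
      calc s * (on .a * on .f) = s * on .a * on .f := by group
        _ = on .a * on .f * (s * on .f) := by rw [h5]; group
        _ = on .a * (on .f * on .f) * s := by rw [hsf]; group
        _ = on .a * s := by rw [ff, mul_one]
    rw [h6] at h3
    exact hne (mul_right_cancel h3).symm
  · exfalso
    rw [TupT0.a_eq hs] at h2
    rw [h2] at h3
    have h4 := sa
    rw [h3, mul_inv_cancel_right] at h4
    exact hne h4.symm
  · right; rw [h2, TupT0.f_eq hs]

/-! ### Classification of the automorphisms -/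

theorem pathRels : PathRels (on .a) (on .b) (on .c) (on .d) (on .e) (on .f) := by
  have hi : Function.Injective (TupleClass.sw hs) := by
    intro x y h
    have := congrArg (TupleClass.sw hs) h
    rwa [TupleClass.sw_sw, TupleClass.sw_sw] at this
  have h := (PathRels.of_rels f_ne_one (TupleClass.rev_rels hs)).map (TupleClass.sw hs) hi
  rwa [TupleClass.sw_f, TupleClass.sw_e, TupleClass.sw_d, TupleClass.sw_c, TupleClass.sw_b, TupleClass.sw_a] at h

theorem aut_cases (α : MulAut ON) : (∃ k : ON, α = MulAut.conj k) ∨ ∃ k : ON, α = MulAut.conj k * E0 := by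
  have : Fact (Nat.Prime 2) := ⟨Nat.prime_two⟩
  have := finite_ON
  obtain ⟨y, hy⟩ := MulAction.exists_smul_eq ON (syl.mapSurjective (f := α.toMonoidHom) α.surjective) syl
  obtain ⟨γ, hγ⟩ : ∃ γ : MulAut ON, γ = MulAut.conj y * α := ⟨_, rfl⟩
  have hγx : ∀ x : ON, γ x = y * α x * y⁻¹ := fun x => by rw [hγ]; rfl
  have hγS : ∀ x : ON, γ x ∈ TupS.S hs ↔ x ∈ TupS.S hs := by
    intro x
    show γ x ∈ syl ↔ x ∈ syl
    constructor
    · intro h
      rw [← hy] at h
      obtain ⟨u, hu, hu2⟩ := h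
      obtain ⟨z, hz, rfl⟩ := hu
      have h3 : y * α z * y⁻¹ = γ x := hu2
      rw [hγx] at h3
      have h4 : α z = α x := mul_left_cancel (mul_right_cancel h3)
      rw [← α.injective h4]
      exact hz
    · intro h
      rw [← hy, hγx]
      exact ⟨α x, ⟨x, h, rfl⟩, rfl⟩
  have hfS : on .f ∈ TupS.S hs := T0_le_S (TupT0.f_mem hs)
  have hγf : γ (on .f) = on .f := by
    rcases center_S ((hγS _).2 hfS) (by
      intro x hx
      obtain ⟨z, rfl⟩ := γ.surjective x
      rw [← map_mul, ← map_mul, S_comm ((hγS z).1 hx)]) with h | h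
    · exfalso
      apply f_ne_one
      apply γ.injective
      rw [h, map_one]
    · exact h
  have hr := pathRels.map γ.toMonoidHom γ.injective
  have hr' : PathRels (γ (on .a)) (γ (on .b)) (γ (on .c)) (γ (on .d)) (γ (on .e)) (on .f) := by
    have h : PathRels (γ (on .a)) (γ (on .b)) (γ (on .c)) (γ (on .d)) (γ (on .e)) (γ (on .f)) := hr
    rwa [hγf] at h
  have hne : γ (on .a) ≠ on .f := by
    intro h
    apply a_ne_f
    apply γ.injective
    rw [h, hγf]
  obtain ⟨x, hx⟩ := TupleClass.tupleConj cen _ _ _ _ _ hr' hne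
  obtain ⟨δ, hδ⟩ : ∃ δ : MulAut ON, δ = MulAut.conj x * γ := ⟨_, rfl⟩
  have hδx : ∀ z : ON, δ z = x * γ z * x⁻¹ := fun z => by rw [hδ]; rfl
  have hαδ : α = MulAut.conj (x * y)⁻¹ * δ := by
    rw [hδ, hγ, ← mul_assoc, ← mul_assoc, ← map_mul, ← map_mul]
    have : (x * y)⁻¹ * x * y = 1 := by group
    rw [this, map_one, one_mul]
  rcases hx with ⟨h1, h2, h3, h4, h5, h6⟩ | ⟨h1, h2, h3, h4, h5, h6⟩
  · left
    have h7 : δ = 1 := aut_eq_one (by rw [hδx, h1]) (by rw [hδx, h2]) (by rw [hδx, h3]) (by rw [hδx, h4])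
      (by rw [hδx, h5]) (by rw [hδx, hγf, h6])
    exact ⟨_, by rw [hαδ, h7, mul_one]⟩
  · right
    have h7 : E0⁻¹ * δ = 1 := by
      have key : ∀ {z u : ON}, δ z = u → E0 z = u → (E0⁻¹ * δ) z = z := by
        intro z u h h'
        rw [MulAut.mul_apply, h, ← h', MulAut.inv_apply_self]
      refine aut_eq_one (key (u := on .a) ?_ E0_a) (key (u := on .b) ?_ E0_b) (key (u := on .c) ?_ E0_c)
        (key (u := d2) ?_ E0_d) (key (u := e2) ?_ E0_e) (key (u := on .f) ?_ E0_f)
      · rw [hδx]; exact h1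
      · rw [hδx]; exact h2
      · rw [hδx]; exact h3
      · rw [hδx]; exact h4
      · rw [hδx]; exact h5
      · rw [hδx, hγf]; exact h6
    exact ⟨_, by rw [hαδ]; congr 1; exact (inv_mul_eq_one.1 h7).symm⟩

/-- elements centralising `f, a, b, c` are in `⟨v⟩` -/
theorem cent_abc {x : ON} (hf : x * on .f = on .f * x) (ha : x * on .a = on .a * x) (hb : x * on .b = on .b * x)
    (hc : x * on .c = on .c * x) : x ∈ zpowers v := by
  have hT : x ∈ TupT0.T0 := TupK.mem_T0 hs (mem_K0.2 hf) ha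
  obtain ⟨l, hl, hx⟩ := TupT0.comm_b hs hT hb
  have hcl : TupT0.exA.all (fun l => TupRow.neJ (l ++ [0]) (0 :: l) ||
      ([[], vw, [7], 7 :: vw] : List (List ℕ)).any fun u => TupRow.eqJ l u) = true := by
    decide +kernel
  have h1 := List.all_eq_true.1 hcl l hl
  rcases Bool.or_eq_true_iff.1 h1 with h2 | h2
  · exfalso
    apply TupRow.neJ_spec h2
    rw [ev_append, ev_cons, ev_cons, ev_nil, mul_one, ← hx]
    exact hc
  · obtain ⟨u, hu, h3⟩ := List.any_eq_true.1 h2
    have h4 := TupRow.eqJ_spec hs h3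
    rw [← hx] at h4
    simp only [List.mem_cons, List.not_mem_nil, or_false] at hu
    rcases hu with rfl | rfl | rfl | rfl
    · rw [h4, ev_nil]; exact one_mem _
    · rw [h4, ev_vw]; exact mem_zpowers v
    · rw [h4, ev_cons, ev_nil, mul_one]; exact zv_f
    · rw [h4, ev_cons, ev_vw]; exact mul_mem zv_f (mem_zpowers v)

/-- **automorphisms trivial on `J`** -/
theorem autJ {α : MulAut ON} (h : ∀ x ∈ J, α x = x) : ∃ u ∈ zpowers v, α = MulAut.conj u := by
  rcases aut_cases α with ⟨k, hk⟩ | ⟨k, hk⟩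
  · refine ⟨k, ?_, hk⟩
    apply cent_J
    intro y hy
    have h1 := h y hy
    rw [hk, MulAut.conj_apply] at h1
    exact mul_inv_eq_iff_eq_mul.1 h1
  · exfalso
    have h1 : ∀ {y : ON}, y ∈ J → E0 y = y → k * y = y * k := by
      intro y hy hy2
      have h1 := h y hy
      rw [hk, MulAut.mul_apply, hy2, MulAut.conj_apply] at h1
      exact mul_inv_eq_iff_eq_mul.1 h1
    have hkv := cent_abc (h1 fJ E0_f) (h1 aJ E0_a) (h1 bJ E0_b) (h1 cJ E0_c)
    apply E0_dg
    have h2 := h _ dgJ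
    rw [hk, MulAut.mul_apply, MulAut.conj_apply] at h2
    -- `E0 (dg) = k⁻¹ (dg) k = dg`
    have h3 : E0 (on .d * on .g) = k⁻¹ * (on .d * on .g) * k := by
      nth_rewrite 2 [← h2]; group
    rw [h3, mul_assoc, zv_comm hkv dgJ]
    group

/-- **automorphisms trivial on a Sylow 2-subgroup centralising `f`** -/
theorem sylAut (S : Sylow 2 ON) (α : MulAut ON) (h : ∀ x ∈ S, α x = x) : ∃ k : ON, α = MulAut.conj k := by
  have : Fact (Nat.Prime 2) := ⟨Nat.prime_two⟩
  have := finite_ON
  obtain ⟨y, hy⟩ := MulAction.exists_smul_eq ON S syl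
  rcases aut_cases (MulAut.conj y * α * MulAut.conj y⁻¹) with ⟨k, hk⟩ | ⟨k, hk⟩
  · refine ⟨y⁻¹ * k * y, ?_⟩
    rw [map_mul, map_mul, ← hk, ← mul_assoc, ← mul_assoc, ← map_mul, mul_assoc, ← map_mul, inv_mul_cancel, map_one,
      one_mul, mul_one]
  · exfalso
    have h1 : ∀ x ∈ TupS.S hs, k * E0 x * k⁻¹ = x := by
      intro x hx
      have h2 : y⁻¹ * x * y ∈ S := by
        have h3 : x ∈ syl := hx
        rw [← hy] at h3
        obtain ⟨z, hz, hz2⟩ := h3
        have h4 : y * z * y⁻¹ = x := hz2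
        have h5 : y⁻¹ * x * y = z := by rw [← h4]; group
        rw [h5]; exact hz
      have h3 := h _ h2
      have h4 := congrArg (fun f : MulAut ON => f x) hk
      simp only [MulAut.mul_apply, MulAut.conj_apply, inv_inv] at h4
      rw [← h4, h3]; group
    have hcomm : ∀ {x : ON}, x ∈ TupS.S hs → E0 x = x → k * x = x * k := by
      intro x hx hx2
      have := h1 x hx
      rw [hx2] at this
      exact mul_inv_eq_iff_eq_mul.1 this
    have hT0 : ∀ {x : ON}, x ∈ T0 → x ∈ TupS.S hs := fun hx => T0_le_S hx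
    have hkf := hcomm (hT0 (TupT0.f_mem hs)) E0_f
    have hka := hcomm (hT0 (TupT0.a_mem hs)) E0_a
    have hkc := hcomm (hT0 TupT0.c_mem) E0_c
    have hkT : k ∈ T0 := TupK.mem_T0 hs (mem_K0.2 hkf) hka
    refine TupT0.not_conj hs hkT hkc ?_
    have := h1 _ (hT0 TupT0.d_mem)
    rw [E0_d] at this
    exact (mul_inv_eq_iff_eq_mul.1 this).symm

/-! ### The outer automorphism group -/

instance inn_normal : (MulAut.conj : ON →* MulAut ON).range.Normal := by
  refine ⟨?_⟩
  rintro _ ⟨k, rfl⟩ β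
  refine ⟨β k, ?_⟩
  ext x
  show β k * x * (β k)⁻¹ = β (k * β⁻¹ x * k⁻¹)
  rw [map_mul, map_mul, map_inv, MulAut.apply_inv_self]

theorem quot_cases (q : MulAut ON ⧸ (MulAut.conj : ON →* MulAut ON).range) :
    q = 1 ∨ q = QuotientGroup.mk' _ E0 := by
  obtain ⟨α, rfl⟩ := QuotientGroup.mk'_surjective _ q
  rcases aut_cases α with ⟨k, hk⟩ | ⟨k, hk⟩
  · left
    exact (QuotientGroup.eq_one_iff _).2 ⟨k, hk.symm⟩
  · right
    have h1 : QuotientGroup.mk' (MulAut.conj : ON →* MulAut ON).range (MulAut.conj k) = 1 :=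
      (QuotientGroup.eq_one_iff _).2 ⟨k, rfl⟩
    rw [hk, map_mul, h1, one_mul]

theorem finite_aut : Finite (MulAut ON) := by
  have := finite_ON
  exact Finite.of_injective (fun f : MulAut ON => (f : ON → ON)) (fun f g h => MulEquiv.ext (congrFun h))

theorem index_le : (MulAut.conj : ON →* MulAut ON).range.index ≤ 2 := by
  have := finite_aut
  let ψ : Bool → MulAut ON ⧸ (MulAut.conj : ON →* MulAut ON).range := fun b =>
    if b then 1 else QuotientGroup.mk' _ E0
  have hψ : Function.Surjective ψ := by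
    intro q
    rcases quot_cases q with h | h
    · exact ⟨true, h.symm⟩
    · exact ⟨false, h.symm⟩
  have h1 := Nat.card_le_card_of_surjective ψ hψ
  rw [Nat.card_eq_fintype_card (α := Bool), Fintype.card_bool] at h1
  exact h1

theorem out : ¬ 4 ∣ (MulAut.conj : ON →* MulAut ON).range.index := by
  have := finite_aut
  intro h
  have h1 := index_le
  have h2 : (MulAut.conj : ON →* MulAut ON).range.index ≠ 0 := Subgroup.index_ne_zero_of_finite
  have h3 := Nat.le_of_dvd (Nat.pos_of_ne_zero h2) h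
  omega

open Cfsg.Agent.OddHalf in
theorem schreier : ∃ n, TR.dser n (⊤ : Subgroup (MulAut ON)) ≤ (MulAut.conj : ON →* MulAut ON).range := by
  refine ⟨1, ?_⟩
  show ⁅(⊤ : Subgroup (MulAut ON)), ⊤⁆ ≤ _
  rw [commutator_le]
  intro α _ β _
  rw [← QuotientGroup.eq_one_iff, commutatorElement_def]
  show QuotientGroup.mk' (MulAut.conj : ON →* MulAut ON).range (α * β * α⁻¹ * β⁻¹) = 1
  rw [map_mul, map_mul, map_mul, map_inv, map_inv]
  have hc : QuotientGroup.mk' (MulAut.conj : ON →* MulAut ON).range α *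
      QuotientGroup.mk' (MulAut.conj : ON →* MulAut ON).range β =
      QuotientGroup.mk' (MulAut.conj : ON →* MulAut ON).range β *
      QuotientGroup.mk' (MulAut.conj : ON →* MulAut ON).range α := by
    rcases quot_cases (QuotientGroup.mk' (MulAut.conj : ON →* MulAut ON).range α) with h | h
    · rw [h, one_mul, mul_one]
    · rcases quot_cases (QuotientGroup.mk' (MulAut.conj : ON →* MulAut ON).range β) with h' | h'
      · rw [h', one_mul, mul_one]
      · rw [h, h']
  rw [hc]; group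

open Cfsg.Agent.OddHalf in
theorem der : TR.dser 1 (centralizer ({on .f} : Set ON)) ≤ J := by
  show ⁅centralizer ({on .f} : Set ON), centralizer ({on .f} : Set ON)⁆ ≤ J
  rw [commutator_le]
  intro x hx y hy
  rw [mem_centralizer_singleton_iff] at hx hy
  rw [mem_J, commutatorElement_def]
  -- conjugation of `v`
  have h1 : ∀ {z : ON}, z ∈ K0 → z * v * z⁻¹ = v ∨ z * v * z⁻¹ = v⁻¹ := conj_v
  have key : (x * y * x⁻¹ * y⁻¹) * v * (x * y * x⁻¹ * y⁻¹)⁻¹ = v := by
    have hxi : x⁻¹ ∈ K0 := K0.inv_mem (mem_K0.2 hx)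
    have hyi : y⁻¹ ∈ K0 := K0.inv_mem (mem_K0.2 hy)
    have e : (x * y * x⁻¹ * y⁻¹) * v * (x * y * x⁻¹ * y⁻¹)⁻¹ =
        x * (y * (x⁻¹ * (y⁻¹ * v * y⁻¹⁻¹) * x⁻¹⁻¹) * y⁻¹) * x⁻¹ := by group
    rw [e]
    rcases h1 hxi with a1 | a1 <;> rcases h1 hyi with a2 | a2
    · have b1 : x * v * x⁻¹ = v := by nth_rewrite 1 [← a1]; group
      have b2 : y * v * y⁻¹ = v := by nth_rewrite 1 [← a2]; group
      rw [a2, a1, b2, b1]
    · have b1 : x * v * x⁻¹ = v := by nth_rewrite 1 [← a1]; group
      have b2 : y * v⁻¹ * y⁻¹ = v := by nth_rewrite 1 [← a2]; group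
      have b3 : x⁻¹ * v⁻¹ * x⁻¹⁻¹ = v⁻¹ := by
        have : x⁻¹ * v⁻¹ * x⁻¹⁻¹ = (x⁻¹ * v * x⁻¹⁻¹)⁻¹ := by group
        rw [this, a1]
      rw [a2, b3, b2, b1]
    · have b1 : x * v⁻¹ * x⁻¹ = v := by nth_rewrite 1 [← a1]; group
      have b2 : y * v⁻¹ * y⁻¹ = v⁻¹ := by
        have : y * v * y⁻¹ = v := by nth_rewrite 1 [← a2]; group
        have h3 : y * v⁻¹ * y⁻¹ = (y * v * y⁻¹)⁻¹ := by group
        rw [h3, this]
      rw [a2, a1, b2, b1]
    · have b1 : x * v⁻¹ * x⁻¹ = v := by nth_rewrite 1 [← a1]; group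
      have b2 : y * v⁻¹ * y⁻¹ = v := by nth_rewrite 1 [← a2]; group
      have b3 : x⁻¹ * v⁻¹ * x⁻¹⁻¹ = v := by
        have : x⁻¹ * v⁻¹ * x⁻¹⁻¹ = (x⁻¹ * v * x⁻¹⁻¹)⁻¹ := by group
        rw [this, a1, inv_inv]
      have b4 : y * v * y⁻¹ = v⁻¹ := by
        have h3 : y * v * y⁻¹ = (y * v⁻¹ * y⁻¹)⁻¹ := by group
        rw [h3, b2]
      rw [a2, b3, b4, b1]
  exact mul_inv_eq_iff_eq_mul.1 key

open Cfsg.Agent.OddHalf.D8.Sheet in
/-- **the basic sheet of the O'Nan group** -/
theorem basic : Basic (on .f) J where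
  zz := ff
  z1 := f_ne_one
  syl := ⟨syl, T0_le_S (TupT0.f_mem hs), fun _ hx => S_comm hx, fun _ hy h => center_S hy h⟩
  zP := fJ
  cen := fun _ hx => mem_K0.1 (J_le hx)
  perf := perf
  der := ⟨1, der⟩
  out := out
  schreier := schreier
  sylAut := fun S _ α _ h => sylAut S α h

end Cfsg.Agent.KFacts.ON.Aut
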