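import Cfsg.Agent.KFacts.ON.CentData
import Cfsg.Agent.ONType.TupleClass
import Cfsg.Agent.S1692
import Cfsg.Agent.S1699

/-!
# The centraliser of an involution in the presented O'Nan group

`card_cent`: `|C(f)| = 161280`; `cent_eq`: `C(f) = ⟨a, b, c, d, g⟩`.

`C(f)` acts on the 360 fixed points of `f`; the stabiliser in `C(f)` of the point 0 fixes the point 122648, which lies in
the suborbit of length 5586. So `|C(f)| ≤ 360 · 672 < 2 · 161280`.
-/

set_option autoImplicit false
set_option maxRecDepth 100000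

namespace Cfsg.Agent.KFacts.ON.Cent

open Cfsg.Agent.Lib.PermNet Cfsg.Agent.Lib.PermNetOrbit Cfsg.Agent.Fischer.Fi24RepLib
  Cfsg.Agent.ONType.RepDef Cfsg.Agent.ONType.Rep Cfsg.Agent.ONType.RepOrb Cfsg.Agent.ONType.RepOrbData
  Cfsg.Agent.KFacts.ON.CentData
open Cfsg.Spor (ON)
open Cfsg.Spor.ON (Gen)
open Cfsg.Agent.SporadicB.ON45Word (on)

section general

theorem inv_self (σ : Equiv.Perm ℕ) (p : ℕ) : σ⁻¹ (σ p) = p := σ.symm_apply_apply p

theorem self_inv (σ : Equiv.Perm ℕ) (p : ℕ) : σ (σ⁻¹ p) = p := σ.apply_symm_apply p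

theorem tb_two (n m : ℕ) (h : (Nat.pow 2 n).testBit m = true) : n = m := by
  have h1 : (2 ^ n).testBit m = true := h
  rw [Nat.testBit_two_pow] at h1
  exact of_decide_eq_true h1

theorem testBit_lor (a b p : ℕ) : (Nat.lor a b).testBit p = (a.testBit p || b.testBit p) := Nat.testBit_or a b p

theorem eq_of_beq {a b : ℕ} (h : Nat.beq a b = true) : a = b := Nat.eq_of_beq_eq_true h

variable {G : Type*} [Group G]

/-- the map `c D ↦ φ c p` -/
theorem index_aux (φ : G →* Equiv.Perm ℕ) (C : Subgroup G) (p : ℕ) (c d : C) :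
    φ c p = φ d p ↔ (c : C ⧸ (C ⊓ stabL φ [p] : Subgroup G).subgroupOf C) = d := by
  rw [QuotientGroup.eq, Subgroup.mem_subgroupOf]
  have h1 : ((c⁻¹ * d : C) : G) ∈ C ⊓ stabL φ [p] ↔ φ ((c⁻¹ * d : C) : G) p = p := by
    rw [Subgroup.mem_inf]
    constructor
    · intro h
      exact h.2 p (by simp)
    · intro h
      refine ⟨(c⁻¹ * d).2, ?_⟩
      intro q hq
      rw [List.mem_singleton.1 hq]
      exact h
  rw [h1, Subgroup.coe_mul, Subgroup.coe_inv, map_mul, map_inv, Equiv.Perm.mul_apply,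
    Equiv.Perm.inv_eq_iff_eq, eq_comm]

theorem card_le [Finite G] (φ : G →* Equiv.Perm ℕ) (C : Subgroup G) (p : ℕ) (T : Set ℕ) (hT : T.Finite)
    (h : ∀ c ∈ C, φ c p ∈ T) : Nat.card C ≤ T.ncard * Nat.card (C ⊓ stabL φ [p] : Subgroup G) := by
  have hD : (C ⊓ stabL φ [p] : Subgroup G) ≤ C := inf_le_left
  have h1 : ((C ⊓ stabL φ [p] : Subgroup G).subgroupOf C).index ≤ T.ncard := by
    have : Finite T := hT
    let ψ : C ⧸ (C ⊓ stabL φ [p] : Subgroup G).subgroupOf C → T := fun x => ⟨φ x.out p, h _ x.out.2⟩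
    have hψ : Function.Injective ψ := by
      intro x y hxy
      have h2 : φ x.out p = φ y.out p := congrArg Subtype.val hxy
      rw [index_aux] at h2
      rwa [QuotientGroup.out_eq', QuotientGroup.out_eq'] at h2
    have h3 := Nat.card_le_card_of_injective ψ hψ
    rwa [Nat.card_coe_set_eq] at h3
  have h2 := Subgroup.card_mul_index ((C ⊓ stabL φ [p] : Subgroup G).subgroupOf C)
  have h3 : Nat.card ((C ⊓ stabL φ [p] : Subgroup G).subgroupOf C) = Nat.card (C ⊓ stabL φ [p] : Subgroup G) :=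
    Nat.card_congr (Subgroup.subgroupOfEquivOfLe hD).toEquiv
  rw [h3] at h2
  rw [← h2, mul_comm]
  exact Nat.mul_le_mul_right _ h1

theorem le_card [Finite G] (φ : G →* Equiv.Perm ℕ) (C : Subgroup G) (p : ℕ) (T : Set ℕ)
    (h : ∀ t ∈ T, ∃ c ∈ C, φ c p = t) : T.ncard * Nat.card (C ⊓ stabL φ [p] : Subgroup G) ≤ Nat.card C := by
  have hD : (C ⊓ stabL φ [p] : Subgroup G) ≤ C := inf_le_left
  have h1 : T.ncard ≤ ((C ⊓ stabL φ [p] : Subgroup G).subgroupOf C).index := by
    choose! c hc hcp using h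
    let ψ : T → C ⧸ (C ⊓ stabL φ [p] : Subgroup G).subgroupOf C := fun t => ((⟨c t, hc t t.2⟩ : C) : C ⧸ _)
    have hψ : Function.Injective ψ := by
      intro x y hxy
      have h2 := (index_aux φ C p ⟨c x, hc x x.2⟩ ⟨c y, hc y y.2⟩).2 hxy
      apply Subtype.ext
      rw [← hcp x x.2, ← hcp y y.2]
      exact h2
    have h3 := Nat.card_le_card_of_injective ψ hψ
    rwa [Nat.card_coe_set_eq] at h3
  have h2 := Subgroup.card_mul_index ((C ⊓ stabL φ [p] : Subgroup G).subgroupOf C)
  have h3 : Nat.card ((C ⊓ stabL φ [p] : Subgroup G).subgroupOf C) = Nat.card (C ⊓ stabL φ [p] : Subgroup G) :=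
    Nat.card_congr (Subgroup.subgroupOfEquivOfLe hD).toEquiv
  rw [h3] at h2
  rw [← h2, mul_comm]
  exact Nat.mul_le_mul_left _ h1

theorem finite_testBit (U : ℕ) : {p : ℕ | U.testBit p = true}.Finite := by
  refine Set.Finite.subset (Set.finite_lt_nat U) ?_
  intro p hp
  rw [Set.mem_ofPred_eq] at hp ⊢
  exact lt_of_lt_of_le (Nat.lt_two_pow_self) (Nat.ge_two_pow_of_testBit hp)

end general

theorem hON : Cfsg.IsON ON := Cfsg.Agent.S1699.result

theorem finite_ON : Finite ON := Cfsg.Agent.ONType.RepCent.finite_of_isON hON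

theorem rho_f : rho (on .f) = wperm (nw [.f] false) := by
  rw [← rho_word, word_single]
  rfl

theorem UG_lt {p : ℕ} (h : UG.testBit p = true) : p < 131072 := by
  have h1 : UG >>> (2 ^ 17) = 0 := Nat.eq_of_beq_eq_true ltG
  by_contra hc
  have h2 := congrArg (fun x => Nat.testBit x (p - 2 ^ 17)) h1
  simp only [Nat.testBit_shiftRight, Nat.zero_testBit] at h2
  rw [show 2 ^ 17 + (p - 2 ^ 17) = p by omega, h] at h2
  exact absurd h2 (by simp)

/-- the orbit of the point 0 is stable -/
theorem UG_inv (x : ON) (p : ℕ) : UG.testBit (rho x p) = UG.testBit p := by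
  have key : ∀ (x : ON) (p : ℕ), UG.testBit p = true → UG.testBit (rho x p) = true := by
    intro x p hp
    have h1 : p ∈ {p : ℕ | ∃ x, rho x 0 = p} := by rw [orbG]; exact hp
    obtain ⟨y, rfl⟩ := h1
    have h2 : rho x (rho y 0) ∈ {p : ℕ | ∃ x, rho x 0 = p} := ⟨x * y, by rw [map_mul, Equiv.Perm.mul_apply]⟩
    rwa [orbG] at h2
  cases h : UG.testBit p with
  | true => exact key x p h
  | false =>
    cases h2 : UG.testBit (rho x p) with
    | false => rfl
    | true =>
      have h3 := key x⁻¹ _ h2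
      rw [map_inv, inv_self, h] at h3
      exact absurd h3 (by simp)

theorem testBit_F {p : ℕ} : F.testBit p = true ↔ UG.testBit p = true ∧ rho (on .f) p = p := by
  have h1 : F.testBit p = (UG.testBit p ^^ (UG.testBit p && (moved (nw [.f] false) 17).testBit p)) := by
    show (UG ^^^ (UG &&& moved (nw [.f] false) 17)).testBit p = _
    rw [Nat.testBit_xor, Nat.testBit_and]
  rw [h1]
  constructor
  · intro h
    cases h2 : UG.testBit p with
    | false => rw [h2] at h; exact absurd h (by simp)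
    | true =>
      refine ⟨rfl, ?_⟩
      rw [h2] at h
      rw [rho_f, ← moved_false (wok _ _) (UG_lt h2)]
      simpa using h
  · rintro ⟨h2, h3⟩
    rw [rho_f, ← moved_false (wok _ _) (UG_lt h2)] at h3
    rw [h2, h3]
    rfl

/-- the fixed points are stable under `C(f)` -/
theorem F_inv {c : ON} (hc : c * on .f = on .f * c) (p : ℕ) : F.testBit (rho c p) = F.testBit p := by
  have key : ∀ {c : ON} (_ : c * on .f = on .f * c) (p : ℕ), F.testBit p = true → F.testBit (rho c p) = true := by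
    intro c hc p hp
    obtain ⟨h1, h2⟩ := testBit_F.1 hp
    refine testBit_F.2 ⟨by rw [UG_inv, h1], ?_⟩
    rw [← Equiv.Perm.mul_apply, ← map_mul, ← hc, map_mul, Equiv.Perm.mul_apply, h2]
  cases h : F.testBit p with
  | true => exact key hc p h
  | false =>
    cases h2 : F.testBit (rho c p) with
    | false => rfl
    | true =>
      have hc' : c⁻¹ * on .f = on .f * c⁻¹ := by
        rw [inv_mul_eq_iff_eq_mul, ← mul_assoc, hc, mul_inv_cancel_right]
      have h3 := key hc' _ h2
      rw [map_inv, inv_self, h] at h3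
      exact absurd h3 (by simp)

theorem hidx : H.index = 122760 := by
  rw [H_eq]
  exact Cfsg.Agent.S1692.result

theorem stab0 (x : ON) : rho x 0 = 0 ↔ x ∈ H :=
  (index_and_suborbits hidx.le (by rw [hidx]; norm_num)).2.1 x

theorem card_H : Nat.card H = 3753792 := by
  rw [H_eq]
  exact SporRec.ONAssembly.card_H SporRec.ONLower.ab_ne_one

/-- the suborbit is stable -/
theorem D_inv {h : ON} (hh : h ∈ H) (p : ℕ) : U5586.testBit (rho h p) = U5586.testBit p := by
  have key : ∀ h ∈ H, ∀ (p : ℕ), U5586.testBit p = true → U5586.testBit (rho h p) = true := by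
    intro h hh p hp
    have h1 : p ∈ {p : ℕ | ∃ x ∈ H, rho x 72 = p} := by rw [orbB]; exact hp
    obtain ⟨y, hy, rfl⟩ := h1
    have h2 : rho h (rho y 72) ∈ {p : ℕ | ∃ x ∈ H, rho x 72 = p} :=
      ⟨h * y, H.mul_mem hh hy, by rw [map_mul, Equiv.Perm.mul_apply]⟩
    rwa [orbB] at h2
  cases hp : U5586.testBit p with
  | true => exact key h hh p hp
  | false =>
    cases h2 : U5586.testBit (rho h p) with
    | false => rfl
    | true =>
      have h3 := key h⁻¹ (H.inv_mem hh) _ h2
      rw [map_inv, inv_self, hp] at h3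
      exact absurd h3 (by simp)

theorem f_mem : on .f ∈ H := by
  rw [← stab0, rho_f, ← ptWord_eq (wok _ _)]
  exact Nat.eq_of_beq_eq_true f0

theorem testBit_X {p : ℕ} : X.testBit p = (F.testBit p && U5586.testBit p) := by
  show (F &&& U5586).testBit p = _
  rw [Nat.testBit_and]

theorem testBit_MM {l : List Gen} {p : ℕ} :
    (MM l).testBit p = (X.testBit p && U5586.testBit (rho (word l) p)) := by
  show (X &&& appWord (nw l false) U5586).testBit p = _
  rw [Nat.testBit_and, testBit_appWord (wok _ _), rho_word]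

/-- an element of `C(f) ∩ H` mapping `q` to `r` maps `MM lq` to `MM lr` -/
theorem MM_inv {c : ON} (hc : c * on .f = on .f * c) (hcH : c ∈ H) {q r : ℕ} (hqr : rho c q = r)
    {lq lr : List Gen} (hq : rho (word lq) q = 0) (hr : rho (word lr) r = 0) (y : ℕ) :
    (MM lr).testBit (rho c y) = (MM lq).testBit y := by
  rw [testBit_MM, testBit_MM, testBit_X, testBit_X, F_inv hc, D_inv hcH]
  congr 1
  have hk : word lr * c * (word lq)⁻¹ ∈ H := by
    rw [← stab0, map_mul, map_mul, Equiv.Perm.mul_apply, Equiv.Perm.mul_apply, map_inv]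
    have : (rho (word lq))⁻¹ 0 = q := by rw [Equiv.Perm.inv_eq_iff_eq, hq]
    rw [this, hqr, hr]
  have h1 := D_inv hk (rho (word lq) y)
  rw [map_mul, map_mul, Equiv.Perm.mul_apply, Equiv.Perm.mul_apply, map_inv, inv_self] at h1
  exact h1

/-- so the two sets have the same number of elements -/
theorem ncard_MM {c : ON} (hc : c * on .f = on .f * c) (hcH : c ∈ H) {q r : ℕ} (hqr : rho c q = r)
    {lq lr : List Gen} (hq : rho (word lq) q = 0) (hr : rho (word lr) r = 0) :
    {p : ℕ | (MM lr).testBit p = true}.ncard = {p : ℕ | (MM lq).testBit p = true}.ncard := by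
  have h1 : {p : ℕ | (MM lr).testBit p = true} = (rho c) '' {p : ℕ | (MM lq).testBit p = true} := by
    ext p
    constructor
    · intro hp
      rw [Set.mem_ofPred_eq] at hp
      refine ⟨(rho c)⁻¹ p, ?_, by simp⟩
      rw [Set.mem_ofPred_eq, ← MM_inv hc hcH hqr hq hr]
      rw [self_inv]
      exact hp
    · rintro ⟨y, hy, rfl⟩
      rw [Set.mem_ofPred_eq] at hy ⊢
      rw [MM_inv hc hcH hqr hq hr, hy]
  rw [h1, Set.ncard_image_of_injective _ (rho c).injective]

/-- the group `⟨a, b, c, d⟩` -/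
def S4 : Subgroup ON := Subgroup.closure {x | ∃ l ∈ w4, word l = x}

theorem S4_le_H : S4 ≤ H := by
  unfold S4 H
  apply Subgroup.closure_mono
  rintro _ ⟨l, hl, rfl⟩
  refine ⟨l, ?_, rfl⟩
  revert l
  decide

theorem S4_comm {s : ON} (hs : s ∈ S4) : s * on .f = on .f * s := by
  have h1 : S4 ≤ Subgroup.centralizer ({on .f} : Set ON) := by
    unfold S4
    rw [Subgroup.closure_le]
    rintro _ ⟨l, hl, rfl⟩
    rw [SetLike.mem_coe, Subgroup.mem_centralizer_singleton_iff]
    have hs := hON.1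
    unfold w4 at hl
    simp only [List.mem_cons, List.not_mem_nil, or_false] at hl
    rcases hl with rfl | rfl | rfl | rfl <;> rw [word_single]
    · exact (ONType.RepCent.fa_comm hs).symm
    · exact (ONType.RepCent.fb_comm hs).symm
    · exact (ONType.RepCent.fc_comm hs).symm
    · exact (ONType.RepCent.fd_comm hs).symm
  exact Subgroup.mem_centralizer_singleton_iff.1 (h1 hs)

theorem S4_fix {s : ON} (hs : s ∈ S4) : rho s qq = qq := by
  unfold S4 at hs
  induction hs using Subgroup.closure_induction with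
  | mem x hx =>
    obtain ⟨l, hl, rfl⟩ := hx
    rw [rho_word]
    exact fixB_spec (nws_ok w4) fixq _ (List.mem_map_of_mem hl)
  | one => rw [map_one]; rfl
  | mul x y _ _ hx hy => rw [map_mul, Equiv.Perm.mul_apply, hy, hx]
  | inv x _ hx => rw [map_inv, Equiv.Perm.inv_eq_iff_eq, hx]

theorem S4_orbit {r p₀ p : ℕ} (h : (sat (nws w4) r (2 ^ p₀)).testBit p = true) : ∃ s ∈ S4, rho s p₀ = p := by
  obtain ⟨g, ⟨s, hs, rfl⟩, hg⟩ := sat_point_spec (K := S4.map rho) (nws_ok w4) (fun w hw => by
    obtain ⟨l, hl, rfl⟩ := List.mem_map.1 hw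
    rw [← rho_word]
    exact Subgroup.mem_map_of_mem rho (Subgroup.subset_closure ⟨l, hl, rfl⟩)) r h
  exact ⟨s, hs, hg⟩

theorem pt_eq {l : List Gen} {q : ℕ} (h : Nat.beq (ptWord (nw l false) q) 0 = true) : rho (word l) q = 0 := by
  rw [rho_word, ← ptWord_eq (wok _ _)]
  exact Nat.eq_of_beq_eq_true h

/-- `C(f) ∩ H` fixes the point 122648 -/
theorem fix_q {c : ON} (hc : c * on .f = on .f * c) (hcH : c ∈ H) : rho c qq = qq := by
  have hX : X.testBit qq = true := by rw [← tb_eq]; exact tbq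
  have h1 : X.testBit (rho c qq) = true := by
    rw [testBit_X, F_inv hc, D_inv hcH, ← testBit_X, hX]
  rw [eq_of_beq X_eq, testBit_lor, testBit_lor, Bool.or_eq_true, Bool.or_eq_true] at h1
  have key : ∀ {r : ℕ} {l : List Gen} {m : ℕ} (_ : rho (word l) r = 0)
      (_ : {p : ℕ | (MM l).testBit p = true}.ncard = m) (_ : m ≠ 28) (s : ON) (_ : s ∈ S4)
      (_ : rho s r = rho c qq), False := by
    intro r l m hr hm hm28 s hs hsr
    have hs' := S4_comm hs
    have hsi : s⁻¹ * on .f = on .f * s⁻¹ := by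
      rw [inv_mul_eq_iff_eq_mul, ← mul_assoc, hs', mul_inv_cancel_right]
    have h3 := ncard_MM (c := s⁻¹ * c) (by rw [mul_assoc, hc, ← mul_assoc, hsi, mul_assoc])
      (H.mul_mem (H.inv_mem (S4_le_H hs)) hcH) (q := qq) (r := r)
      (by rw [map_mul, Equiv.Perm.mul_apply, map_inv, Equiv.Perm.inv_eq_iff_eq, hsr]) (pt_eq pt0) hr
    rw [hm, ncard_testBit ltM0 pcM0] at h3
    exact hm28 h3
  rcases h1 with h1 | h1 | h1
  · obtain ⟨s, hs, hsr⟩ := S4_orbit (r := 3) (p₀ := 72) h1
    exact (key (pt_eq pt1) (ncard_testBit ltM1 pcM1) (by norm_num) s hs hsr).elim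
  · obtain ⟨s, hs, hsr⟩ := S4_orbit (r := 3) (p₀ := 1996) h1
    exact (key (pt_eq pt2) (ncard_testBit ltM2 pcM2) (by norm_num) s hs hsr).elim
  · exact (tb_two _ _ h1).symm

theorem card_Hq : Nat.card (H ⊓ stabL rho [qq] : Subgroup ON) ≤ 672 := by
  have := finite_ON
  have hq : (qq : ℕ) ∈ {p : ℕ | ∃ x ∈ H, rho x 72 = p} := by
    rw [orbB, Set.mem_ofPred_eq]
    have h1 : X.testBit qq = true := by rw [← tb_eq]; exact tbq
    rw [testBit_X, Bool.and_eq_true] at h1
    exact h1.2
  obtain ⟨x, hx, hxq⟩ := hq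
  have h1 := le_card rho H qq {p : ℕ | ∃ x ∈ H, rho x 72 = p} (by
    rintro t ⟨y, hy, rfl⟩
    refine ⟨y * x⁻¹, H.mul_mem hy (H.inv_mem hx), ?_⟩
    rw [map_mul, Equiv.Perm.mul_apply, ← hxq, map_inv, inv_self])
  rw [ncardB, card_H] at h1
  omega

/-- `|C(f)| ≤ 241920` -/
theorem card_cent_le : Nat.card (Subgroup.centralizer ({on .f} : Set ON)) ≤ 241920 := by
  have := finite_ON
  have h0 : F.testBit 0 = true := by
    refine testBit_F.2 ⟨by rw [← tb_eq]; exact tbG, ?_⟩
    exact (stab0 _).2 f_mem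
  have h1 := card_le rho (Subgroup.centralizer ({on .f} : Set ON)) 0 {p : ℕ | F.testBit p = true}
    (finite_testBit F) (by
      intro c hc
      rw [Set.mem_ofPred_eq, F_inv (Subgroup.mem_centralizer_singleton_iff.1 hc), h0])
  rw [ncard_testBit ltF pcF] at h1
  have h2 : (Subgroup.centralizer ({on .f} : Set ON) ⊓ stabL rho [0] : Subgroup ON) ≤
      H ⊓ stabL rho [qq] := by
    rintro c ⟨hc, hc0⟩
    have hcH : c ∈ H := (stab0 c).1 (hc0 0 (by simp))
    refine ⟨hcH, ?_⟩
    intro q hq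
    rw [List.mem_singleton.1 hq]
    exact fix_q (Subgroup.mem_centralizer_singleton_iff.1 hc) hcH
  have h3 := Subgroup.card_le_of_le h2
  have h4 := card_Hq
  have h5 : 360 * Nat.card (Subgroup.centralizer ({on .f} : Set ON) ⊓ stabL rho [0] : Subgroup ON) ≤ 360 * 672 :=
    Nat.mul_le_mul_left _ (h3.trans h4)
  omega

theorem card_K0 : Nat.card ONType.TupK.K0 = 161280 := by
  have := finite_ON
  have hs := hON.1
  apply le_antisymm
  · refine (ONType.TupK.card_K0_le hs).trans ?_
    have h := (ONType.TupT0.card_T0_le hs).2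
    calc 630 * Nat.card ONType.TupT0.T0 ≤ 630 * 256 := Nat.mul_le_mul_left _ h
      _ = 161280 := by norm_num
  · rw [← ONType.TupleClass.closure_eq]
    exact ONType.RepCent.card_C5_ge

/-- **The order of the centraliser of an involution of the O'Nan group.** -/
theorem card_cent : Nat.card (Subgroup.centralizer ({on .f} : Set ON)) = 161280 := by
  have := finite_ON
  have hs := hON.1
  have h1 : ONType.TupK.K0 ≤ Subgroup.centralizer ({on .f} : Set ON) := by
    rw [← ONType.TupleClass.closure_eq]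
    exact ONType.RepCent.C5_le hs
  have h2 := Subgroup.card_dvd_of_le h1
  rw [card_K0] at h2
  obtain ⟨k, hk⟩ := h2
  have h3 := card_cent_le
  have h4 : 0 < Nat.card (Subgroup.centralizer ({on .f} : Set ON)) := Nat.card_pos
  rw [hk] at h3 h4 ⊢
  have : k = 1 := by
    have : 0 < k := Nat.pos_of_ne_zero (by rintro rfl; simp at h4)
    omega
  rw [this]

theorem cent_eq : Subgroup.centralizer ({on .f} : Set ON) =
    Subgroup.closure {on .a, on .b, on .c, on .d, on .g} :=
  ONType.RepCent.centralizer_eq hON card_cent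

/-- the facts on the centraliser of `f` -/
theorem cen : ONType.TupleClass.Cen := ONType.TupleClass.cen_of hON.1 card_cent cent_eq

end Cfsg.Agent.KFacts.ON.Cent
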