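import Cfsg.Agent.ONType.RepCent

/-!
# The centraliser of an involution in the presented O'Nan group: kernel checks on the 122760 points

`F`: the fixed points of `f`. `MM r`: the fixed points `y` of `f` in the suborbit of length 5586 such that `y` is in that
relation to the point `r`.
-/

set_option autoImplicit false
set_option maxRecDepth 100000
set_option Elab.async false

namespace Cfsg.Agent.KFacts.ON.CentData

open Cfsg.Agent.Lib.PermNet Cfsg.Agent.Lib.PermNetOrbit Cfsg.Agent.Fischer.Fi24RepLib
  Cfsg.Agent.ONType.RepDef Cfsg.Agent.ONType.Rep Cfsg.Agent.ONType.RepOrb Cfsg.Agent.ONType.RepOrbData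
open Cfsg.Spor (ON)
open Cfsg.Spor.ON (Gen)

/-- the positions moved by a word, as seen on the first `m` planes -/
noncomputable def moved (w : List Net) (m : ℕ) : ℕ :=
  Nat.rec (motive := fun _ => ℕ) 0
    (fun b ih => Nat.lor ih (Nat.xor (plane 17 b) (appWord w (plane 17 b)))) m

/-- the fixed points of `f` among the 122760 points -/
noncomputable def F : ℕ := Nat.xor UG (Nat.land UG (moved (nw [.f] false) 17))

/-- fixed points of `f` in the suborbit `U5586` -/
noncomputable def X : ℕ := Nat.land F U5586

noncomputable def MM (l : List Gen) : ℕ := Nat.land X (appWord (nw l false) U5586)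

/-- the generators `a, b, c, d` -/
def w4 : List (List Gen) := [[.a], [.b], [.c], [.d]]

/-- orbit of 72 under `⟨a, b, c, d⟩` -/
noncomputable def O1 : ℕ := sat (nws w4) 3 (Nat.pow 2 72)
/-- orbit of 1996 under `⟨a, b, c, d⟩` -/
noncomputable def O2 : ℕ := sat (nws w4) 3 (Nat.pow 2 1996)

/-- the fixed point of `C(f) ∩ H` -/
def qq : ℕ := 122648

theorem pcF : Nat.beq (pc 17 F) (360 : ℕ) = true := by decide +kernel
theorem ltF : Nat.beq (Nat.shiftRight F (Nat.pow 2 (17 : ℕ))) 0 = true := by decide +kernel
theorem X_eq : Nat.beq X (Nat.lor O1 (Nat.lor O2 (Nat.pow 2 qq))) = true := by decide +kernel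
theorem tbq : tb X qq = true := by decide +kernel
theorem fixq : fixB (nws w4) qq = true := by decide +kernel
theorem pcM0 : Nat.beq (pc 17 (MM [.g, .d, .g])) (28 : ℕ) = true := by decide +kernel
theorem ltM0 : Nat.beq (Nat.shiftRight (MM [.g, .d, .g]) (Nat.pow 2 (17 : ℕ))) 0 = true := by decide +kernel
theorem pcM1 : Nat.beq (pc 17 (MM [.g, .b, .c, .g, .d])) (12 : ℕ) = true := by decide +kernel
theorem ltM1 : Nat.beq (Nat.shiftRight (MM [.g, .b, .c, .g, .d]) (Nat.pow 2 (17 : ℕ))) 0 = true := by decide +kernel
theorem pcM2 : Nat.beq (pc 17 (MM [.g, .b, .e, .d, .g, .e, .g])) (10 : ℕ) = true := by decide +kernel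
theorem ltM2 : Nat.beq (Nat.shiftRight (MM [.g, .b, .e, .d, .g, .e, .g]) (Nat.pow 2 (17 : ℕ))) 0 = true := by
  decide +kernel
theorem pt0 : Nat.beq (ptWord (nw [.g, .d, .g] false) qq) 0 = true := by decide +kernel
theorem pt1 : Nat.beq (ptWord (nw [.g, .b, .c, .g, .d] false) 72) 0 = true := by decide +kernel
theorem pt2 : Nat.beq (ptWord (nw [.g, .b, .e, .d, .g, .e, .g] false) 1996) 0 = true := by decide +kernel
theorem f0 : Nat.beq (ptWord (nw [.f] false) 0) 0 = true := by decide +kernel

/-! ### Specifications -/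

theorem testBit_moved {w : List Net} (hw : WOk 131072 w) {p : ℕ} (hp : p < 131072) {m : ℕ} (hm : m ≤ 17) :
    (moved w m).testBit p = true ↔ ∃ b < m, p.testBit b ≠ (wperm w p).testBit b := by
  induction m with
  | zero =>
    show (0 : ℕ).testBit p = true ↔ _
    simp
  | succ m ih =>
    show (moved w m ||| (plane 17 m ^^^ appWord w (plane 17 m))).testBit p = true ↔ _
    have hlt := wperm_lt hw hp
    rw [Nat.testBit_or, Nat.testBit_xor, testBit_appWord hw, testBit_plane 17 m p (by simpa using hp) (by omega),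
      testBit_plane 17 m (wperm w p) (by simpa using hlt) (by omega), Bool.or_eq_true, ih (by omega)]
    constructor
    · rintro (⟨b, hb, h⟩ | h)
      · exact ⟨b, by omega, h⟩
      · refine ⟨m, by omega, fun e => ?_⟩
        rw [e] at h
        simp at h
    · rintro ⟨b, hb, h⟩
      by_cases hbm : b = m
      · right
        subst hbm
        cases h1 : p.testBit b <;> cases h2 : (wperm w p).testBit b <;> simp_all
      · exact Or.inl ⟨b, by omega, h⟩

theorem moved_false {w : List Net} (hw : WOk 131072 w) {p : ℕ} (hp : p < 131072) :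
    (moved w 17).testBit p = false ↔ wperm w p = p := by
  rw [← Bool.not_eq_true, testBit_moved hw hp le_rfl]
  constructor
  · intro h
    push Not at h
    have hlt := wperm_lt hw hp
    apply Nat.eq_of_testBit_eq
    intro b
    by_cases hb : b < 17
    · exact (h b hb).symm
    · have hk : 131072 ≤ 2 ^ b := by
        have : 2 ^ 17 ≤ 2 ^ b := Nat.pow_le_pow_right (by norm_num) (by omega)
        omega
      rw [Nat.testBit_lt_two_pow (lt_of_lt_of_le hlt hk), Nat.testBit_lt_two_pow (lt_of_lt_of_le hp hk)]
  · intro h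
    rintro ⟨b, _, hb⟩
    rw [h] at hb
    exact hb rfl

end Cfsg.Agent.KFacts.ON.CentData
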