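import Cfsg.Agent.KFacts.ON.Qs

/-!
# Automorphisms of `J` and the group `E`

`estar`: every automorphism of `J` acts on `E` like an element of `C(f)`.
`kk`: `N(E)` is transitive on the involutions of `E`.
-/

set_option autoImplicit false
set_option maxRecDepth 100000

namespace Cfsg.Agent.KFacts.ON.Estar

open Subgroup
open Cfsg.Spor (ON)
open Cfsg.Spor.ON (Gen)
open Cfsg.Agent.SporadicB.ON45Word (on)
open Cfsg.Agent.KFacts.MulSpor.ON (w w_append w_one w_cons w_iw iw eqw cj)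
open Cfsg.Agent.KFacts.ON.Cent (hON finite_ON cen card_K0)
open Cfsg.Agent.KFacts.ON.Words Cfsg.Agent.KFacts.ON.Struct Cfsg.Agent.KFacts.ON.Qs
open Cfsg.Agent.ONType
open Cfsg.Agent.ONType.TupK (K0)
open Cfsg.Agent.ONType.TupT0 (T0 exists_T0)

/-! ### Normalising `E` -/

theorem f_conj {k : ON} (hk : k ∈ K0) : k * on .f * k⁻¹ = on .f := by
  rw [mem_K0.1 hk, mul_inv_cancel_right]

theorem E_conj_mem {k : ON} (hf : k * on .f * k⁻¹ ∈ E) (ha : k * on .a * k⁻¹ ∈ E) (hs3 : k * s3 * k⁻¹ ∈ E)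
    {e : ON} (he : e ∈ E) : k * e * k⁻¹ ∈ E := by
  obtain ⟨i, j, l, rfl⟩ := he
  have h : k * el i j l * k⁻¹ = (k * on .f * k⁻¹) ^ i * (k * on .a * k⁻¹) ^ j * (k * s3 * k⁻¹) ^ l := by
    rw [conj_pow, conj_pow, conj_pow]; unfold el; group
  rw [h]
  exact E.mul_mem (E.mul_mem (E.pow_mem hf _) (E.pow_mem ha _)) (E.pow_mem hs3 _)

theorem E_conj_iff {k : ON} (h : ∀ e ∈ E, k * e * k⁻¹ ∈ E) {y : ON} : y ∈ E ↔ k * y * k⁻¹ ∈ E := by
  have := finite_ON
  refine ⟨h y, fun hy => ?_⟩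
  have h1 : E.map (MulAut.conj k).toMonoidHom ≤ E := by
    rintro _ ⟨e, he, rfl⟩
    exact h e he
  have h2 : E.map (MulAut.conj k).toMonoidHom = E := by
    apply Subgroup.eq_of_le_of_card_ge h1
    exact (Subgroup.card_map_of_injective (MulAut.conj k).injective).ge
  rw [← h2] at hy
  obtain ⟨e, he, h3⟩ := hy
  have h4 : e = y := (MulAut.conj k).injective h3
  rwa [← h4]

theorem dE {e : ON} (he : e ∈ E) : on .d * e * (on .d)⁻¹ ∈ E := by
  refine E_conj_mem ?_ ?_ ?_ he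
  · rw [f_conj d_mem]; exact fE
  · rw [ad_conj]; exact aE
  · have h : w [.d] * w [.c, .d, .g, .c, .d, .g] * (w [.d])⁻¹ = w (.a :: [.c, .d, .g, .c, .d, .g]) :=
      Words.conj _ _ _ (by decide +kernel)
    rw [wd, w_cons] at h
    have h2 : on .d * s3 * (on .d)⁻¹ = on .a * s3 := h
    rw [h2]
    exact E.mul_mem aE sE

/-! ### `[SJ, E] ≤ ⟨v⟩` -/

/-- the elements of `J` centralising `E` modulo `⟨v⟩` -/
def PJ : Subgroup ON where
  carrier := {y | y ∈ J ∧ ∀ e ∈ E, ∃ u ∈ zpowers v, y * e * y⁻¹ = u * e}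
  one_mem' := ⟨J.one_mem, fun e _ => ⟨1, one_mem _, by group⟩⟩
  mul_mem' := by
    rintro x y ⟨hx, hx'⟩ ⟨hy, hy'⟩
    refine ⟨J.mul_mem hx hy, fun e he => ?_⟩
    obtain ⟨u, hu, h1⟩ := hy' e he
    obtain ⟨u', hu', h2⟩ := hx' e he
    refine ⟨u * u', mul_mem hu hu', ?_⟩
    calc x * y * e * (x * y)⁻¹ = x * (y * e * y⁻¹) * x⁻¹ := by group
      _ = (x * u) * e * x⁻¹ := by rw [h1]; group
      _ = (u * x) * e * x⁻¹ := by rw [zv_comm hu hx]
      _ = u * (x * e * x⁻¹) := by group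
      _ = u * u' * e := by rw [h2]; group
  inv_mem' := by
    rintro x ⟨hx, hx'⟩
    refine ⟨J.inv_mem hx, fun e he => ?_⟩
    obtain ⟨u, hu, h1⟩ := hx' e he
    refine ⟨u⁻¹, inv_mem hu, ?_⟩
    have h2 : x⁻¹ * u = u * x⁻¹ := zv_comm hu (J.inv_mem hx)
    have h3 : e = u * (x⁻¹ * e * x) := by
      calc e = x⁻¹ * (x * e * x⁻¹) * x := by group
        _ = (x⁻¹ * u) * e * x := by rw [h1]; group
        _ = u * (x⁻¹ * e * x) := by rw [h2]; group
    rw [inv_inv, eq_inv_mul_iff_mul_eq]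
    exact h3.symm

theorem mem_PJ {y : ON} : y ∈ PJ ↔ y ∈ J ∧ ∀ e ∈ E, ∃ u ∈ zpowers v, y * e * y⁻¹ = u * e := Iff.rfl

theorem mem_PJ_of {y : ON} (hy : y ∈ J) (ha : ∃ u ∈ zpowers v, y * on .a * y⁻¹ = u * on .a)
    (hs3 : ∃ u ∈ zpowers v, y * s3 * y⁻¹ = u * s3) : y ∈ PJ := by
  refine ⟨hy, ?_⟩
  rintro _ ⟨i, j, l, rfl⟩
  obtain ⟨u, hu, h1⟩ := ha
  obtain ⟨u', hu', h2⟩ := hs3
  have hc1 : Commute (on .a) u := zv_comm hu aJ
  have hc2 : Commute s3 u' := zv_comm hu' s3J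
  have hc3 : Commute (on .f) u := zv_comm hu fJ
  have hc4 : Commute (on .f) u' := zv_comm hu' fJ
  have hc5 : Commute (on .a) u' := zv_comm hu' aJ
  refine ⟨u ^ j * u' ^ l, mul_mem (pow_mem hu _) (pow_mem hu' _), ?_⟩
  have h : y * el i j l * y⁻¹ = (y * on .f * y⁻¹) ^ i * (y * on .a * y⁻¹) ^ j * (y * s3 * y⁻¹) ^ l := by
    rw [conj_pow, conj_pow, conj_pow]; unfold el; group
  rw [h, f_conj (J_le hy), h1, h2, hc1.symm.mul_pow, hc2.symm.mul_pow]
  unfold el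
  calc on .f ^ i * (u ^ j * on .a ^ j) * (u' ^ l * s3 ^ l)
      = (on .f ^ i * u ^ j) * (on .a ^ j * u' ^ l) * s3 ^ l := by group
    _ = (u ^ j * on .f ^ i) * (u' ^ l * on .a ^ j) * s3 ^ l := by rw [(hc3.pow_pow i j).eq, (hc5.pow_pow j l).eq]
    _ = u ^ j * (on .f ^ i * u' ^ l) * on .a ^ j * s3 ^ l := by group
    _ = u ^ j * (u' ^ l * on .f ^ i) * on .a ^ j * s3 ^ l := by rw [(hc4.pow_pow i l).eq]
    _ = _ := by group

theorem zv_f : on .f ∈ zpowers v := by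
  rw [← vv]; exact mul_mem (mem_zpowers v) (mem_zpowers v)

theorem cPJ : on .c ∈ PJ := by
  apply mem_PJ_of cJ
  · refine ⟨1, one_mem _, ?_⟩
    have h : w [.c] * w [.a] * (w [.c])⁻¹ = w [.a] := Words.conj _ _ _ (by decide +kernel)
    rw [wc, wa] at h
    rw [h, one_mul]
  · refine ⟨on .f, zv_f, ?_⟩
    have h : w [.c] * w [.c, .d, .g, .c, .d, .g] * (w [.c])⁻¹ = w (.f :: [.c, .d, .g, .c, .d, .g]) :=
      Words.conj _ _ _ (by decide +kernel)
    rw [wc, w_cons] at h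
    exact h

theorem gdPJ : on .g * on .d ∈ PJ := by
  have hJ : on .g * on .d ∈ J := by
    rw [mem_J]
    have h : w ([.g, .d] ++ [.a, .d, .g, .d, .g]) = w ([.a, .d, .g, .d, .g] ++ [.g, .d]) :=
      Words.eq _ _ (by decide +kernel)
    rw [w_append, w_append, w_cons, w_one] at h
    exact h
  apply mem_PJ_of hJ
  · refine ⟨1, one_mem _, ?_⟩
    have h : w [.g, .d] * w [.a] * (w [.g, .d])⁻¹ = w [.a] := Words.conj _ _ _ (by decide +kernel)
    rw [w_cons, w_one, wa] at h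
    rw [h, one_mul]
  · refine ⟨on .f, zv_f, ?_⟩
    have h : w [.g, .d] * w [.c, .d, .g, .c, .d, .g] * (w [.g, .d])⁻¹ = w (.f :: [.c, .d, .g, .c, .d, .g]) :=
      Words.conj _ _ _ (by decide +kernel)
    rw [w_cons, w_one, w_cons] at h
    exact h

theorem sPJ : s ∈ PJ := by
  apply mem_PJ_of sJ
  · refine ⟨on .f, zv_f, ?_⟩
    rw [sa, faC.eq]
  · refine ⟨on .f, zv_f, ?_⟩
    have h : s * w [.c, .d, .g, .c, .d, .g] * s⁻¹ = w (.f :: [.c, .d, .g, .c, .d, .g]) :=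
      Words.conj _ _ _ (by decide +kernel)
    rw [w_cons] at h
    exact h

theorem dPJ {y : ON} (hy : y ∈ PJ) : on .d * y * on .d ∈ PJ := by
  have hJ : on .d * y * on .d ∈ J := by
    have := J_normal d_mem hy.1
    rwa [d_inv] at this
  refine ⟨hJ, fun e he => ?_⟩
  obtain ⟨u, hu, h1⟩ := hy.2 _ (dE he)
  have hdu : on .d * u * (on .d)⁻¹ ∈ zpowers v := by
    obtain ⟨n, rfl⟩ := mem_zpowers_iff.1 hu
    rw [← conj_zpow, vd]
    exact zpow_mem (inv_mem (mem_zpowers v)) n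
  refine ⟨_, hdu, ?_⟩
  have e1 : on .d * y * on .d * e * (on .d * y * on .d)⁻¹ =
      on .d * (y * (on .d * e * (on .d)⁻¹) * y⁻¹) * (on .d)⁻¹ := by group
  rw [e1, h1]
  have e2 : on .d * (u * (on .d * e * (on .d)⁻¹)) * (on .d)⁻¹ =
      on .d * u * (on .d * on .d) * (on .d)⁻¹ * ((on .d)⁻¹ * (on .d)) * e * ((on .d)⁻¹ * (on .d)⁻¹) := by group
  have e3 : (on .d)⁻¹ * (on .d)⁻¹ = 1 := by rw [← mul_inv_rev, dd, inv_one]
  calc on .d * (u * (on .d * e * (on .d)⁻¹)) * (on .d)⁻¹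
      = on .d * u * on .d * e * ((on .d)⁻¹ * (on .d)⁻¹) := by group
    _ = on .d * u * (on .d)⁻¹ * e := by rw [e3, mul_one, d_inv]

theorem T0_PJ {t : ON} (ht : t ∈ T0) : t ∈ PJ ∨ t * on .d ∈ PJ := by
  have hle : T0 ≤ closure ({on .c, on .d, on .g} : Set ON) := by
    unfold TupT0.T0
    rw [Subgroup.closure_le]
    rintro _ ⟨x, hx, rfl⟩
    have hx4 : x < 4 := hx
    interval_cases x
    · exact subset_closure (by simp [TupRow.gJ])
    · exact subset_closure (by simp [TupRow.gJ])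
    · exact subset_closure (by simp [TupRow.gJ])
    · exact inv_mem (subset_closure (by simp))
  have ht' := hle ht
  clear ht
  induction ht' using Subgroup.closure_induction with
  | mem x hx =>
    simp only [Set.mem_insert_iff, Set.mem_singleton_iff] at hx
    rcases hx with rfl | rfl | rfl
    · exact Or.inl cPJ
    · right; rw [dd]; exact PJ.one_mem
    · exact Or.inr gdPJ
  | one => exact Or.inl PJ.one_mem
  | mul x y _ _ hx hy =>
    rcases hx with hx | hx <;> rcases hy with hy | hy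
    · exact Or.inl (PJ.mul_mem hx hy)
    · right
      rw [mul_assoc]; exact PJ.mul_mem hx hy
    · right
      have e : x * y * on .d = (x * on .d) * (on .d * y * on .d) := by
        calc x * y * on .d = x * (on .d * on .d) * y * on .d := by rw [dd, mul_one]
          _ = _ := by group
      rw [e]
      exact PJ.mul_mem hx (dPJ hy)
    · left
      have e : x * y = (x * on .d) * (on .d * (y * on .d) * on .d) := by
        calc x * y = x * (on .d * on .d) * y * (on .d * on .d) := by rw [dd, mul_one, mul_one]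
          _ = _ := by group
      rw [e]
      exact PJ.mul_mem hx (dPJ hy)
  | inv x _ hx =>
    rcases hx with hx | hx
    · exact Or.inl (PJ.inv_mem hx)
    · right
      have e : x⁻¹ * on .d = on .d * (x * on .d)⁻¹ * on .d := by
        rw [mul_inv_rev, d_inv, ← mul_assoc, dd, one_mul]
      rw [e]
      exact dPJ (PJ.inv_mem hx)

theorem T0J_PJ {t : ON} (ht : t ∈ T0) (htJ : t ∈ J) : t ∈ PJ := by
  rcases T0_PJ ht with h | h
  · exact h
  · exfalso
    apply d_not_mem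
    have := J.mul_mem (J.inv_mem htJ) h.1
    rwa [inv_mul_cancel_left] at this

theorem SJ_PJ : SJ ≤ PJ := by
  rintro x ⟨hx, hxJ⟩
  rcases hx with hx | hx
  · exact T0J_PJ hx hxJ
  · rw [s_eq] at hx
    have h1 := T0J_PJ hx (J.mul_mem hxJ sJ)
    have h2 := PJ.mul_mem h1 (PJ.inv_mem sPJ)
    rwa [mul_inv_cancel_right] at h2

/-! ### Conjugacy in `E`, inside `N(E)` -/

theorem conj_aux' {l m m' : List Gen}
    (h1 : MulSpor.ON.okw (l ++ [.a] ++ iw (m ++ l)) = true)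
    (h2 : MulSpor.ON.okw ((l ++ [.a, .d, .g, .d, .g]) ++ iw ([.a, .d, .g, .d, .g] ++ l)) = true)
    (h3 : MulSpor.ON.okw (l ++ [.c, .d, .g, .c, .d, .g] ++ iw (m' ++ l)) = true) :
    ∃ g ∈ J, g * on .a * g⁻¹ = w m ∧ g * s3 * g⁻¹ = w m' := by
  refine ⟨w l, ?_, ?_, ?_⟩
  · rw [mem_J, v, ← w_append, ← w_append]
    exact Words.eq _ _ h2
  · rw [← wa]
    exact Words.conj _ _ _ h1
  · exact Words.conj _ _ _ h3

theorem E_conj' {x : ON} (hx : x ∈ E) : x = 1 ∨ x = on .f ∨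
    ∃ g ∈ J, g * on .a * g⁻¹ = x ∧ ∀ e ∈ E, g * e * g⁻¹ ∈ E := by
  have key : ∀ {x y : ON}, x ∈ E → y ∈ E → (∃ g ∈ J, g * on .a * g⁻¹ = x ∧ g * s3 * g⁻¹ = y) →
      ∃ g ∈ J, g * on .a * g⁻¹ = x ∧ ∀ e ∈ E, g * e * g⁻¹ ∈ E := by
    rintro x y hx hy ⟨g, hg, h1, h2⟩
    refine ⟨g, hg, h1, fun e he => E_conj_mem ?_ ?_ ?_ he⟩
    · rw [f_conj (J_le hg)]; exact fE
    · rw [h1]; exact hx
    · rw [h2]; exact hy
  rcases E_cases hx with h | h | h | h | h | h | h | h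
  · exact Or.inl h
  · exact Or.inr (Or.inl h)
  · right; right
    exact ⟨1, J.one_mem, by rw [h]; group, fun e he => by rw [one_mul, inv_one, mul_one]; exact he⟩
  · right; right
    have h1 : x = w [.f, .a] := by rw [h, w_cons, w_one]
    refine key hx (E.mul_mem fE sE) ?_
    rw [h1]
    exact conj_aux' (l := [.b, .g, .g, .g, .c, .b, .g, .d, .b, .c, .d, .b, .c, .a, .b])
      (m' := [.f, .c, .d, .g, .c, .d, .g]) (by decide +kernel) (by decide +kernel) (by decide +kernel)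
  · right; right
    refine key hx (E.mul_mem aE sE) ?_
    rw [h]
    exact conj_aux' (l := [.b, .g, .c, .d, .b, .c, .a, .b, .g, .d, .c, .b])
      (m' := [.a, .c, .d, .g, .c, .d, .g]) (by decide +kernel) (by decide +kernel) (by decide +kernel)
  · right; right
    have h1 : x = w (.f :: [.c, .d, .g, .c, .d, .g]) := by rw [h, w_cons]; rfl
    refine key hx (E.mul_mem aE sE) ?_
    rw [h1]
    exact conj_aux' (l := [.b, .c, .d, .c, .b, .g, .g, .g, .b, .g, .c, .d, .c, .b])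
      (m' := [.a, .c, .d, .g, .c, .d, .g]) (by decide +kernel) (by decide +kernel) (by decide +kernel)
  · right; right
    have h1 : x = w (.a :: [.c, .d, .g, .c, .d, .g]) := by rw [h, w_cons]; rfl
    refine key hx aE ?_
    rw [h1, ← wa]
    exact conj_aux' (l := [.b, .c, .g, .g, .g, .d, .b, .c, .d, .a, .b, .c, .g, .g, .g, .b])
      (m' := [.a]) (by decide +kernel) (by decide +kernel) (by decide +kernel)
  · right; right
    have h1 : x = w (.f :: .a :: [.c, .d, .g, .c, .d, .g]) := by rw [h, w_cons, w_cons, mul_assoc]; rfl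
    have h2 : on .a * on .f = w [.a, .f] := by rw [w_cons, w_one]
    refine key hx (E.mul_mem aE fE) ?_
    rw [h1, h2]
    exact conj_aux' (l := [.b, .g, .g, .g, .c, .d, .c, .b, .g, .b, .c, .d, .c, .b])
      (m' := [.a, .f]) (by decide +kernel) (by decide +kernel) (by decide +kernel)

/-! ### Automorphisms of `J` -/

/-- an automorphism of `J` acts on `⟨v⟩` -/
theorem aut_zv (β : MulAut J) {u : J} (hu : (u : ON) ∈ zpowers v) : ((β u : J) : ON) ∈ zpowers v := by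
  rw [← mem_center] at hu ⊢
  rw [mem_center_iff] at hu ⊢
  intro y
  have h1 := congrArg β (hu (β⁻¹ y))
  rw [map_mul, map_mul, MulAut.apply_inv_self] at h1
  exact h1

theorem aut_f (β : MulAut J) : ((β ⟨on .f, fJ⟩ : J) : ON) = on .f := by
  have h1 : (⟨on .f, fJ⟩ : J) = ⟨v, vJ⟩ * ⟨v, vJ⟩ := Subtype.ext vv.symm
  have h2 := aut_zv β (u := ⟨v, vJ⟩) (mem_zpowers v)
  have h3 : β ⟨on .f, fJ⟩ ≠ 1 := by
    intro h
    have h4 : (⟨on .f, fJ⟩ : J) = 1 := β.injective (by rw [h, map_one])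
    exact f_ne_one (congrArg Subtype.val h4)
  rw [h1, map_mul] at h3 ⊢
  rw [Subgroup.coe_mul]
  have h4 : ((β ⟨v, vJ⟩ : J) : ON) * ((β ⟨v, vJ⟩ : J) : ON) ≠ 1 := fun h => h3 (Subtype.ext h)
  rcases zv_cases h2 with h | h | h | h
  · exact absurd (by rw [h, one_mul]) h4
  · rw [h, vv]
  · exact absurd (by rw [h, ff]) h4
  · have hc : Commute (on .f) v := mem_J.1 fJ
    rw [h]
    calc on .f * v * (on .f * v) = on .f * (v * on .f) * v := by group
      _ = (on .f * on .f) * (v * v) := by rw [← hc.eq]; group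
      _ = on .f := by rw [ff, one_mul, vv]

/-- an automorphism of `J` normalising `SJ` normalises `E` -/
theorem aut_E (β : MulAut J) (hβ : ∀ x : J, (x : ON) ∈ SJ ↔ ((β x : J) : ON) ∈ SJ) {e : J} (he : (e : ON) ∈ E) :
    ((β e : J) : ON) ∈ E := by
  have h1 : ((β e : J) : ON) ∈ SJ := (hβ e).1 (ESJ he)
  obtain ⟨e', he', h2⟩ := center_mod h1.1 (by
    intro y hy
    obtain ⟨y', hy'⟩ : ∃ y', β y' = ⟨y, SJ_le hy⟩ := β.surjective _
    have h3 : (y' : ON) ∈ SJ := (hβ y').2 (by rw [hy']; exact hy)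
    obtain ⟨u, hu, h4⟩ := (SJ_PJ h3).2 _ he
    -- `y' e y'⁻¹ = u e`
    have huJ : u ∈ J := by
      obtain ⟨n, rfl⟩ := mem_zpowers_iff.1 hu
      exact zpow_mem vJ n
    have h5 : y' * e * y'⁻¹ = ⟨u, huJ⟩ * e := Subtype.ext h4
    have h6 := congrArg β h5
    rw [map_mul, map_mul, map_mul, map_inv, hy'] at h6
    have h7 := congrArg Subtype.val h6
    have h8 : y * (β e : J) * y⁻¹ = ((β ⟨u, huJ⟩ : J) : ON) * (β e : J) := h7
    have h9 := aut_zv β (u := ⟨u, huJ⟩) hu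
    refine ⟨_, inv_mem h9, ?_⟩
    rw [eq_inv_mul_iff_mul_eq, ← mul_assoc, ← h8, inv_mul_cancel_right])
  rcases h2 with h2 | h2
  · rw [h2]; exact he'
  · exfalso
    have h3 : ((β e : J) : ON) * ((β e : J) : ON) = 1 := by
      have h4 : e * e = 1 := Subtype.ext (E_sq he)
      have h5 := congrArg β h4
      rw [map_mul, map_one] at h5
      exact congrArg Subtype.val h5
    rw [h2] at h3
    have h4 : Commute e' v := mem_J.1 (EJ he')
    have h5 : e' * v * (e' * v) = (e' * e') * (v * v) := by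
      calc e' * v * (e' * v) = e' * (v * e') * v := by group
        _ = (e' * e') * (v * v) := by rw [← h4.eq]; group
    rw [h5, E_sq he', one_mul, vv] at h3
    exact f_ne_one h3

theorem estar_aux {b1 b2 : ON} (h1 : b1 ∈ E) (h2 : b2 ∈ E) (h3 : b1 ≠ 1) (h4 : b1 ≠ on .f) (h5 : b2 ≠ 1)
    (h6 : b2 ≠ on .f) (h7 : b2 ≠ b1) (h8 : b2 ≠ on .f * b1) :
    ∃ n ∈ K0, n * on .a * n⁻¹ = b1 ∧ n * s3 * n⁻¹ = b2 := by
  rcases E_conj' h1 with h | h | ⟨g, hg, hg1, hgE⟩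
  · exact absurd h h3
  · exact absurd h h4
  have hgi : ∀ y, y ∈ E ↔ g * y * g⁻¹ ∈ E := fun y => E_conj_iff hgE
  obtain ⟨b3, hb3⟩ : ∃ b3, b3 = g⁻¹ * b2 * g := ⟨_, rfl⟩
  have hb2 : b2 = g * b3 * g⁻¹ := by rw [hb3]; group
  have hb3E : b3 ∈ E := by rw [hgi, ← hb2]; exact h2
  have hfg := f_conj (J_le hg)
  have key : ∃ n ∈ K0, n * on .a * n⁻¹ = on .a ∧ n * s3 * n⁻¹ = b3 := by
    rcases E_cases hb3E with h | h | h | h | h | h | h | h
    · exact absurd (by rw [hb2, h]; group) h5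
    · exact absurd (by rw [hb2, h, hfg]) h6
    · exact absurd (by rw [hb2, h, hg1]) h7
    · refine absurd ?_ h8
      rw [hb2, h]
      calc g * (on .f * on .a) * g⁻¹ = (g * on .f * g⁻¹) * (g * on .a * g⁻¹) := by group
        _ = _ := by rw [hfg, hg1]
    · exact ⟨1, K0.one_mem, by group, by rw [h]; group⟩
    · refine ⟨on .c, c_mem, ?_, ?_⟩
      · have h : w [.c] * w [.a] * (w [.c])⁻¹ = w [.a] := Words.conj _ _ _ (by decide +kernel)
        rw [wc, wa] at h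
        exact h
      · rw [h]
        have h : w [.c] * w [.c, .d, .g, .c, .d, .g] * (w [.c])⁻¹ = w (.f :: [.c, .d, .g, .c, .d, .g]) :=
          Words.conj _ _ _ (by decide +kernel)
        rw [wc, w_cons] at h
        exact h
    · refine ⟨on .d, d_mem, ad_conj, ?_⟩
      rw [h]
      have h : w [.d] * w [.c, .d, .g, .c, .d, .g] * (w [.d])⁻¹ = w (.a :: [.c, .d, .g, .c, .d, .g]) :=
        Words.conj _ _ _ (by decide +kernel)
      rw [wd, w_cons] at h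
      exact h
    · refine ⟨on .g, g_mem, ?_, ?_⟩
      · have h : w [.g] * w [.a] * (w [.g])⁻¹ = w [.a] := Words.conj _ _ _ (by decide +kernel)
        rw [wg, wa] at h
        exact h
      · rw [h]
        have h : w [.g] * w [.c, .d, .g, .c, .d, .g] * (w [.g])⁻¹ =
            w (.f :: .a :: [.c, .d, .g, .c, .d, .g]) := Words.conj _ _ _ (by decide +kernel)
        rw [wg, w_cons, w_cons, ← mul_assoc] at h
        exact h
  obtain ⟨n, hn, hn1, hn2⟩ := key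
  refine ⟨g * n, K0.mul_mem (J_le hg) hn, ?_, ?_⟩
  · calc g * n * on .a * (g * n)⁻¹ = g * (n * on .a * n⁻¹) * g⁻¹ := by group
      _ = b1 := by rw [hn1, hg1]
  · calc g * n * s3 * (g * n)⁻¹ = g * (n * s3 * n⁻¹) * g⁻¹ := by group
      _ = b2 := by rw [hn2, hb2]

theorem a_ne_one : on .a ≠ 1 := fun h => a_not_zv (by rw [h]; exact one_mem _)
theorem a_ne_f : on .a ≠ on .f := fun h => a_not_zv (by rw [h]; exact zv_f)

theorem s3_not : s3 ≠ 1 ∧ s3 ≠ on .f ∧ s3 ≠ on .a ∧ s3 ≠ on .f * on .a := by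
  have h1 : TupRow.neJ [0, 1, 2, 0, 1, 2] [] = true := by decide +kernel
  have h2 : TupRow.neJ [0, 1, 2, 0, 1, 2] [7] = true := by decide +kernel
  have h3 : TupRow.neJ [0, 1, 2, 0, 1, 2] [5] = true := by decide +kernel
  have h4 : TupRow.neJ [0, 1, 2, 0, 1, 2] [7, 5] = true := by decide +kernel
  have h1 := TupRow.neJ_spec h1
  have h2 := TupRow.neJ_spec h2
  have h3 := TupRow.neJ_spec h3
  have h4 := TupRow.neJ_spec h4
  rw [ev_s3] at h1 h2 h3 h4
  simp only [SporadicRecognition.CosetCert.ev_cons, SporadicRecognition.CosetCert.ev_nil, mul_one] at h1 h2 h3 h4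
  exact ⟨h1, h2, h3, h4⟩

/-- **(E\*)** automorphisms of `J` act on `E` like elements of `C(f)` -/
theorem estar (β : MulAut J) : ∃ n ∈ K0, ∀ e (he : e ∈ E), ((β ⟨e, EJ he⟩ : J) : ON) = n * e * n⁻¹ := by
  have : Fact (Nat.Prime 2) := ⟨Nat.prime_two⟩
  have := finite_ON
  -- a conjugate of `β` normalises `SJ`
  obtain ⟨j, hj⟩ := MulAction.exists_smul_eq J (sylJ.mapSurjective (f := β.toMonoidHom) β.surjective) sylJ
  obtain ⟨γ, hγ⟩ : ∃ γ : MulAut J, γ = MulAut.conj j * β := ⟨_, rfl⟩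
  have hγx : ∀ x : J, γ x = j * β x * j⁻¹ := fun x => by rw [hγ]; rfl
  have hγS : ∀ x : J, (x : ON) ∈ SJ ↔ ((γ x : J) : ON) ∈ SJ := by
    intro x
    have h1 : γ x ∈ sylJ ↔ x ∈ sylJ := by
      constructor
      · intro h
        rw [← hj] at h
        obtain ⟨y, hy, hy2⟩ := h
        obtain ⟨z, hz, rfl⟩ := hy
        have h3 : j * β z * j⁻¹ = γ x := hy2
        rw [hγx] at h3
        have h4 : β z = β x := mul_left_cancel (mul_right_cancel h3)
        rw [← β.injective h4]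
        exact hz
      · intro h
        rw [← hj, hγx]
        exact ⟨β x, ⟨x, h, rfl⟩, rfl⟩
    exact h1.symm
  have hE : ∀ {e : J}, (e : ON) ∈ E → ((γ e : J) : ON) ∈ E := fun he => aut_E γ hγS he
  have hf : ((γ ⟨on .f, fJ⟩ : J) : ON) = on .f := aut_f γ
  have hinj : ∀ {x y : J}, ((γ x : J) : ON) = (γ y : J) → (x : ON) = y := by
    intro x y h
    have : x = y := γ.injective (Subtype.ext h)
    rw [this]
  have h1ne : ∀ {x : J}, (x : ON) ≠ 1 → ((γ x : J) : ON) ≠ 1 := by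
    intro x hx h
    apply hx
    have : ((γ x : J) : ON) = (γ 1 : J) := by rw [h, map_one]; rfl
    exact hinj this
  obtain ⟨n, hn, hn1, hn2⟩ := estar_aux (b1 := (γ ⟨on .a, aJ⟩ : J)) (b2 := (γ ⟨s3, s3J⟩ : J)) (hE aE) (hE sE)
    (h1ne a_ne_one) (fun h => a_ne_f (hinj (h.trans hf.symm)))
    (h1ne s3_not.1) (fun h => s3_not.2.1 (hinj (h.trans hf.symm))) (fun h => s3_not.2.2.1 (hinj h)) (by
      intro h
      apply s3_not.2.2.2
      have h2 : ((γ ⟨s3, s3J⟩ : J) : ON) = (γ (⟨on .f, fJ⟩ * ⟨on .a, aJ⟩) : J) := by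
        rw [map_mul, Subgroup.coe_mul, hf]; exact h
      exact hinj h2)
  have hnf := f_conj hn
  -- `γ e = n e n⁻¹`
  have key : ∀ i k l : ℕ, ∀ h : el i k l ∈ J, ((γ ⟨el i k l, h⟩ : J) : ON) = n * el i k l * n⁻¹ := by
    intro i k l h
    have h1 : (⟨el i k l, h⟩ : J) = ⟨on .f, fJ⟩ ^ i * ⟨on .a, aJ⟩ ^ k * ⟨s3, s3J⟩ ^ l := Subtype.ext (by
      rw [Subgroup.coe_mul, Subgroup.coe_mul, Subgroup.coe_pow, Subgroup.coe_pow, Subgroup.coe_pow]
      rfl)
    rw [h1, map_mul, map_mul, map_pow, map_pow, map_pow, Subgroup.coe_mul, Subgroup.coe_mul, Subgroup.coe_pow,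
      Subgroup.coe_pow, Subgroup.coe_pow, hf, ← hn1, ← hn2]
    nth_rewrite 1 [← hnf]
    rw [conj_pow, conj_pow, conj_pow]
    unfold el
    group
  refine ⟨(j : ON)⁻¹ * n, K0.mul_mem (K0.inv_mem (J_le j.2)) hn, ?_⟩
  rintro e he
  have h1 : ((γ ⟨e, EJ he⟩ : J) : ON) = n * e * n⁻¹ := by
    obtain ⟨i, k, l, hh⟩ := mem_E.1 he
    subst hh
    exact key i k l _
  rw [hγx] at h1
  have h2 : (j : ON) * (β ⟨e, EJ he⟩ : J) * (j : ON)⁻¹ = n * e * n⁻¹ := h1
  calc ((β ⟨e, EJ he⟩ : J) : ON) = (j : ON)⁻¹ * ((j : ON) * (β ⟨e, EJ he⟩ : J) * (j : ON)⁻¹) * j := by group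
    _ = _ := by rw [h2]; group

/-! ### The conjugates of `f` in `E` -/

def Wa : List Gen :=
  [.e, .d, .c, .d, .c, .e, .d, .c, .b, .g, .g, .g, .e, .d, .c, .b, .g, .e, .d, .b, .c, .d, .b, .c, .a, .b]

def Waf : List Gen := [.e, .d, .c, .g, .e, .d, .g, .g, .g, .e, .c, .d, .c, .d, .e]

theorem Wa_f : w Wa * on .f * (w Wa)⁻¹ = on .a * on .f := by
  have h : w Wa * w [.f] * (w Wa)⁻¹ = w [.a, .f] := Words.conj _ _ _ (by decide +kernel)
  rw [wf, w_cons, w_one] at h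
  exact h

theorem Wa_a : w Wa * on .a * (w Wa)⁻¹ = on .f := by
  have h : w Wa * w [.a] * (w Wa)⁻¹ = w [.f] := Words.conj _ _ _ (by decide +kernel)
  rw [wf, wa] at h
  exact h

theorem Wa_s : w Wa * s3 * (w Wa)⁻¹ = on .a * s3 := by
  have h : w Wa * w [.c, .d, .g, .c, .d, .g] * (w Wa)⁻¹ = w (.a :: [.c, .d, .g, .c, .d, .g]) :=
    Words.conj _ _ _ (by decide +kernel)
  rw [w_cons] at h
  exact h

theorem Waf_f : w Waf * on .f * (w Waf)⁻¹ = on .a * on .f := by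
  have h : w Waf * w [.f] * (w Waf)⁻¹ = w [.a, .f] := Words.conj _ _ _ (by decide +kernel)
  rw [wf, w_cons, w_one] at h
  exact h

theorem Waf_a : w Waf * on .a * (w Waf)⁻¹ = on .a := by
  have h : w Waf * w [.a] * (w Waf)⁻¹ = w [.a] := Words.conj _ _ _ (by decide +kernel)
  rw [wa] at h
  exact h

theorem Waf_s : w Waf * s3 * (w Waf)⁻¹ = on .f * s3 := by
  have h : w Waf * w [.c, .d, .g, .c, .d, .g] * (w Waf)⁻¹ = w (.f :: [.c, .d, .g, .c, .d, .g]) :=
    Words.conj _ _ _ (by decide +kernel)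
  rw [w_cons] at h
  exact h

theorem WaE : ∀ e ∈ E, w Wa * e * (w Wa)⁻¹ ∈ E := fun e he =>
  E_conj_mem (by rw [Wa_f]; exact E.mul_mem aE fE) (by rw [Wa_a]; exact fE) (by rw [Wa_s]; exact E.mul_mem aE sE) he

theorem WafE : ∀ e ∈ E, w Waf * e * (w Waf)⁻¹ ∈ E := fun e he =>
  E_conj_mem (by rw [Waf_f]; exact E.mul_mem aE fE) (by rw [Waf_a]; exact aE)
    (by rw [Waf_s]; exact E.mul_mem fE sE) he

theorem inv_norm {k : ON} (h : ∀ e ∈ E, k * e * k⁻¹ ∈ E) : ∀ e ∈ E, k⁻¹ * e * k⁻¹⁻¹ ∈ E := by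
  intro e he
  rw [E_conj_iff h]
  have : k * (k⁻¹ * e * k⁻¹⁻¹) * k⁻¹ = e := by group
  rwa [this]

/-- `N(E)` is transitive on the involutions of `E` -/
theorem kk {x : ON} (hx : x ∈ E) (hx1 : x ≠ 1) : ∃ k : ON, k * on .f * k⁻¹ = x ∧ ∀ e ∈ E, k * e * k⁻¹ ∈ E := by
  rcases E_conj' hx with h | h | ⟨g, -, hg1, hgE⟩
  · exact absurd h hx1
  · exact ⟨1, by rw [h]; group, fun e he => by rw [one_mul, inv_one, mul_one]; exact he⟩
  · refine ⟨g * (w Wa)⁻¹, ?_, ?_⟩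
    · have h1 : (w Wa)⁻¹ * on .f * w Wa = on .a := by rw [← Wa_a]; group
      calc g * (w Wa)⁻¹ * on .f * (g * (w Wa)⁻¹)⁻¹ = g * ((w Wa)⁻¹ * on .f * w Wa) * g⁻¹ := by group
        _ = x := by rw [h1, hg1]
    · intro e he
      have h1 := hgE _ (inv_norm WaE e he)
      have h2 : g * (w Wa)⁻¹ * e * (g * (w Wa)⁻¹)⁻¹ = g * ((w Wa)⁻¹ * e * (w Wa)⁻¹⁻¹) * g⁻¹ := by group
      rw [h2]; exact h1

/-- the relation between the three elements of order 4 -/
theorem rel : v * ((w Wa)⁻¹ * v * (w Wa)⁻¹⁻¹) * ((w Waf)⁻¹ * v * (w Waf)⁻¹⁻¹)⁻¹ = on .f * s3 := by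
  have h : w ([.a, .d, .g, .d, .g] ++ iw Wa ++ [.a, .d, .g, .d, .g] ++ Wa) =
      w (.f :: [.c, .d, .g, .c, .d, .g] ++ iw Waf ++ [.a, .d, .g, .d, .g] ++ Waf) :=
    Words.eq _ _ (by decide +kernel)
  rw [w_append, w_append, w_append, w_iw hs, w_append, w_append, w_append, w_iw hs, w_cons] at h
  have h1 : v * (w Wa)⁻¹ * v * w Wa = on .f * s3 * (w Waf)⁻¹ * v * w Waf := h
  rw [inv_inv, inv_inv, mul_inv_eq_iff_eq_mul]
  calc v * ((w Wa)⁻¹ * v * w Wa) = v * (w Wa)⁻¹ * v * w Wa := by group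
    _ = _ := by rw [h1]; group

end Cfsg.Agent.KFacts.ON.Estar
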