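import Cfsg.Agent.KFacts.ON.Cent
import Cfsg.Agent.S0111

/-!
# The presented O'Nan group: one class of involutions, the centre of a Sylow 2-subgroup, `O(C(f)) = 1` (helper115)

`sylow`: `TupS.S` is a Sylow 2-subgroup; `one_class`: all the involutions are conjugate to `f`;
`center_sylow`: `Z(S) = ⟨f⟩`; `odd_core`: `O(C(f)) = 1`.
-/

set_option autoImplicit false
set_option maxRecDepth 100000
set_option Elab.async false

namespace Cfsg.Agent.KFacts.ON.OneClass

open Cfsg.Spor (ON)
open Cfsg.Spor.ON (Gen)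
open Cfsg.Agent.SporadicB.ONHom Cfsg.Agent.SporadicB.ON45Word
  Cfsg.Agent.ONType Cfsg.Agent.ONType.TupRow Cfsg.Agent.ONType.TupCover Cfsg.Agent.ONType.TupT0
  Cfsg.Agent.ONType.TupK Cfsg.Agent.ONType.TupS Cfsg.Agent.ONType.TupleClass Cfsg.Agent.ONType.SecondTuple
open Cfsg.Agent.SporadicRecognition.CosetCert (ev ev_nil ev_cons ev_append)

/-- the group is simple -/
theorem hs : IsSimpleGroup ON := Cfsg.Agent.KFacts.ON.Cent.hON.1

theorem card_ON : Nat.card ON = 460815505920 := Cfsg.Agent.KFacts.ON.Cent.hON.2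

theorem mem_K0 {x : ON} : x ∈ K0 ↔ x * on .f = on .f * x := Cent.cen.mem x

/-! ### The involutions of `T0 = ⟨c, d, g⟩` -/

/-- representatives of the classes of involutions of `T0` -/
def exR : List (List ℕ) := [[0], [1], [2, 2], [0, 1, 0, 1, 2], [0, 1, 2, 0, 1, 2], [5], [7]]

/-- conjugating elements -/
def exT : List (List ℕ) := [[], [0, 1], [0, 2], [1, 2], [0, 1, 0], [0, 1, 2, 0], [0, 2, 0, 1], [1, 0, 2, 1],
  [1, 2, 0, 2], [1, 2, 1, 0], [2, 0, 1, 2], [2, 1, 0, 1], [0, 1, 0, 2, 1, 2], [0, 1, 2, 1, 0, 2], [2, 0, 1, 0],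
  [2, 1, 2, 0], [0, 1, 2, 0, 2, 1]]

theorem inv_chk : allLive TupTData.C (fun _ w => neJ (w ++ w) [] || (w == []) ||
    exT.any fun u => exR.any fun r => eqJ (u ++ w) (r ++ u)) = true := by decide +kernel

theorem invol_T0 {t : ON} (ht : t ∈ T0) (htt : t * t = 1) (h1 : t ≠ 1) :
    ∃ u : ON, ∃ r ∈ exR, u * t = ev gJ r * u := by
  obtain ⟨l, -, h2, h3⟩ := exists_T0 hs inv_chk ht
  rcases Bool.or_eq_true_iff.1 h2 with h4 | h4
  · exfalso
    rcases Bool.or_eq_true_iff.1 h4 with h5 | h5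
    · apply neJ_spec h5
      rw [ev_append, ev_nil, ← h3]
      exact htt
    · apply h1
      have : nword TupTData.C l = [] := by simpa using h5
      rw [h3, this, ev_nil]
  · obtain ⟨u, -, h5⟩ := List.any_eq_true.1 h4
    obtain ⟨r, hr, h6⟩ := List.any_eq_true.1 h5
    have h7 := eqJ_spec hs h6
    rw [ev_append, ev_append, ← h3] at h7
    exact ⟨ev gJ u, r, hr, h7⟩

theorem conj_of_braid {G : Type*} [Group G] {x y : G} (hx : x * x = 1) (h : x * y * x = y * x * y) :
    IsConj x y := by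
  rw [isConj_iff]
  have hxi : x⁻¹ = x := inv_eq_of_mul_eq_one_right hx
  refine ⟨x * y, ?_⟩
  calc x * y * x * (x * y)⁻¹ = y * x * y * (x * y)⁻¹ := by rw [h]
    _ = y := by group

theorem ab_conj : IsConj (on .a) (on .b) := by
  have h : eqJ [5, 6, 5] [6, 5, 6] = true := by decide +kernel
  have := eqJ_spec hs h
  simp only [ev_cons, ev_nil, mul_one] at this
  exact conj_of_braid (aa hs) (by rw [mul_assoc, mul_assoc]; exact this)

theorem bc_conj : IsConj (on .b) (on .c) := by
  have h : eqJ [6, 0, 6] [0, 6, 0] = true := by decide +kernel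
  have := eqJ_spec hs h
  simp only [ev_cons, ev_nil, mul_one] at this
  exact conj_of_braid (bb hs) (by rw [mul_assoc, mul_assoc]; exact this)

theorem sw_conj {x y : ON} (h : IsConj x y) : IsConj (sw hs x) (sw hs y) := by
  obtain ⟨g, hg⟩ := isConj_iff.1 h
  refine isConj_iff.2 ⟨sw hs g, ?_⟩
  rw [← hg, map_mul, map_mul, map_inv]

theorem ac_conj : IsConj (on .a) (on .c) := ab_conj.trans bc_conj

theorem fd_conj : IsConj (on .f) (on .d) := by
  have := sw_conj ac_conj
  rwa [sw_a, sw_c] at this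

/-- `s` exchanges `a` and `a f` -/
theorem a_af : IsConj (on .a) (on .a * on .f) := by
  have h : eqK (TupS.sw ++ [4]) ([2, 2] ++ TupS.sw) = true := by decide +kernel
  have h1 := eqK_spec hs h
  rw [ev_append, ev_append] at h1
  have h2 : ev gK [2, 2] = on .a * on .f := by
    rw [← gg_eq hs]; rfl
  rw [h2] at h1
  have h3 : TupS.s * on .a = on .a * on .f * TupS.s := by
    have e : ev gK [4] = on .a := by rw [ev_cons, ev_nil, mul_one]; rfl
    rw [← e]; exact h1
  refine isConj_iff.2 ⟨TupS.s, ?_⟩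
  rw [h3]; group

theorem af_comm : on .a * on .f = on .f * on .a := comm_f hs (a_mem hs)

theorem f_af : IsConj (on .f) (on .a * on .f) := by
  have := sw_conj a_af
  rwa [map_mul, sw_a, sw_f, ← af_comm] at this

theorem a_f : IsConj (on .a) (on .f) := a_af.trans f_af.symm

theorem r3 : IsConj (ev gJ [0, 1, 0, 1, 2]) (on .f) := by
  -- `s d s = c g⁻¹ d c d`
  have h1 : eqK (TupS.sw ++ 1 :: TupS.sw) [0, 3, 1, 0, 1] = true := by decide +kernel
  have h1 := eqK_spec hs h1
  rw [ev_append, ev_cons _ _ TupS.sw, ← mul_assoc] at h1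
  have h2 : IsConj (on .d) (ev gK [0, 3, 1, 0, 1]) := by
    rw [← h1]
    refine isConj_iff.2 ⟨TupS.s, ?_⟩
    rw [s_inv hs]
    rfl
  have h3 : (exT.any fun u => eqJ (u ++ [0, 3, 1, 0, 1]) ([0, 1, 0, 1, 2] ++ u)) = true := by decide +kernel
  obtain ⟨u, -, h4⟩ := List.any_eq_true.1 h3
  have h5 := eqJ_spec hs h4
  rw [ev_append, ev_append] at h5
  have h6 : IsConj (ev gJ [0, 3, 1, 0, 1]) (ev gJ [0, 1, 0, 1, 2]) := by
    refine isConj_iff.2 ⟨ev gJ u, ?_⟩
    rw [h5]; group
  have h7 : ev gK [0, 3, 1, 0, 1] = ev gJ [0, 3, 1, 0, 1] := rfl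
  rw [h7] at h2
  exact (fd_conj.trans (h2.trans h6)).symm

theorem r4 : IsConj (ev gJ [0, 1, 2, 0, 1, 2]) (on .f) := by
  have h : (exT.any fun u => eqJ (u ++ [0, 1, 2, 0, 1, 2]) ([0, 1, 2, 0, 1, 2, 7] ++ u)) = true := by
    decide +kernel
  obtain ⟨u, -, h4⟩ := List.any_eq_true.1 h
  have h5 := eqJ_spec hs h4
  rw [ev_append, ev_append] at h5
  have h6 : IsConj (ev gJ [0, 1, 2, 0, 1, 2]) (ev gJ [0, 1, 2, 0, 1, 2, 7]) := by
    refine isConj_iff.2 ⟨ev gJ u, ?_⟩
    rw [h5]; group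
  obtain ⟨m, -, hm⟩ := sq_word hs [0, 1, 2, 0, 1, 2] [6, 0, 1, 0, 3, 6, 2, 6, 0, 1, 0, 6] (by decide)
    (by decide +kernel)
  have h7 : IsConj (ev gJ [0, 1, 2, 0, 1, 2, 7]) (on .a) := by
    refine isConj_iff.2 ⟨m, ?_⟩
    have e : ev gJ [0, 1, 2, 0, 1, 2, 7] = ev gJ [0, 1, 2, 0, 1, 2] * on .f := by
      rw [show [0, 1, 2, 0, 1, 2, 7] = [0, 1, 2, 0, 1, 2] ++ [7] from rfl, ev_append, ev_cons _ 7, ev_nil, mul_one]
      rfl
    rw [e, hm]; group
  exact h6.trans (h7.trans a_f)

theorem T0_conj {t : ON} (ht : t ∈ T0) (htt : t * t = 1) (h1 : t ≠ 1) : IsConj t (on .f) := by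
  obtain ⟨u, r, hr, h⟩ := invol_T0 ht htt h1
  have h2 : IsConj t (ev gJ r) := by
    refine isConj_iff.2 ⟨u, ?_⟩
    rw [h]; group
  refine h2.trans ?_
  have e1 : ∀ x, ev gJ [x] = gJ x := fun x => by rw [ev_cons, ev_nil, mul_one]
  simp only [exR, List.mem_cons, List.not_mem_nil, or_false] at hr
  rcases hr with rfl | rfl | rfl | rfl | rfl | rfl | rfl
  · rw [e1]; exact ac_conj.symm.trans a_f
  · rw [e1]; exact fd_conj.symm
  · rw [gg_eq hs]; exact f_af.symm
  · exact r3
  · exact r4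
  · rw [e1]; exact a_f
  · rw [e1]; exact IsConj.refl _

/-! ### The Sylow subgroup -/

theorem finite_ON : Finite ON := Cfsg.Agent.KFacts.ON.Cent.finite_ON

theorem exists_sylow : ∃ P : Sylow 2 ON, (P : Subgroup ON) = S hs := by
  have := finite_ON
  have : Fact (Nat.Prime 2) := ⟨Nat.prime_two⟩
  refine ⟨Sylow.ofCard (S hs) ?_, rfl⟩
  rw [card_S hs Cent.card_K0, card_ON, show (460815505920 : ℕ) = 2 ^ 9 * 900030285 by norm_num,
    Nat.factorization_mul (by norm_num) (by norm_num), Nat.Prime.factorization_pow Nat.prime_two]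
  rw [Finsupp.add_apply, Finsupp.single_eq_same,
    Nat.factorization_eq_zero_of_not_dvd (by norm_num : ¬ 2 ∣ 900030285)]
  norm_num

theorem relIndex_T0 : T0.relIndex (S hs) = 2 := by
  have h := Subgroup.card_mul_index (T0.subgroupOf (S hs))
  rw [Nat.card_congr (Subgroup.subgroupOfEquivOfLe (T0_le_S hs)).toEquiv, card_T0 hs Cent.card_K0,
    card_S hs Cent.card_K0] at h
  show (T0.subgroupOf (S hs)).index = 2
  omega

theorem no_index_two (M : Subgroup ON) (hM : M.Normal) (h2 : M.index = 2) : False := by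
  rcases hs.eq_bot_or_eq_top_of_normal M hM with h | h
  · rw [h, Subgroup.index_bot, card_ON] at h2
    omega
  · rw [h, Subgroup.index_top] at h2
    omega

/-- **All the involutions of the O'Nan group are conjugate.** -/
theorem one_class {w : ON} (hw : w * w = 1) (hw1 : w ≠ 1) : IsConj w (on .f) := by
  have := finite_ON
  have : Fact (Nat.Prime 2) := ⟨Nat.prime_two⟩
  have hS2 : ∀ y ∈ S hs, y * y = 1 → y ≠ 1 → IsConj y (on .f) := by
    intro y hy hyy hy1
    by_cases hyT : y ∈ T0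
    · exact T0_conj hyT hyy hy1
    · obtain ⟨P, hP⟩ := exists_sylow
      have hord : orderOf y = 2 := orderOf_eq_prime (by rw [pow_two]; exact hyy) hy1
      rcases Cfsg.Agent.S0111.result P T0 (by rw [hP]; exact T0_le_S hs) (by rw [hP]; exact relIndex_T0) y hord
        (by rw [hP]; exact hy) hyT with ⟨M, h1, h2, -⟩ | ⟨g, hg⟩
      · exact (no_index_two M h1 h2).elim
      · have h3 : IsConj y (g * y * g⁻¹) := isConj_iff.2 ⟨g, rfl⟩
        refine h3.trans (T0_conj hg ?_ ?_)
        · calc g * y * g⁻¹ * (g * y * g⁻¹) = g * (y * y) * g⁻¹ := by group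
            _ = 1 := by rw [hyy]; group
        · intro h4
          apply hy1
          calc y = g⁻¹ * (g * y * g⁻¹) * g := by group
            _ = 1 := by rw [h4]; group
  obtain ⟨P, hP⟩ := exists_sylow
  have hQ : IsPGroup 2 (Subgroup.zpowers w) := by
    rintro ⟨a, ha⟩
    obtain ⟨i, rfl⟩ := Subgroup.mem_zpowers_iff.1 ha
    refine ⟨1, Subtype.ext ?_⟩
    show (w ^ i) ^ (2 ^ 1) = 1
    rw [pow_one, pow_two, ← zpow_add, ← two_mul, zpow_mul]
    have : w ^ (2 : ℤ) = 1 := by
      rw [show (2 : ℤ) = 1 + 1 by norm_num, zpow_add, zpow_one, hw]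
    rw [this, one_zpow]
  obtain ⟨R, hR⟩ := hQ.exists_le_sylow
  obtain ⟨g, hg⟩ := MulAction.exists_smul_eq ON R P
  have hm : g * w * g⁻¹ ∈ S hs := by
    rw [← hP, ← hg, Sylow.smul_def, Sylow.pointwise_smul_def, Subgroup.mem_pointwise_smul_iff_inv_smul_mem,
      ← map_inv, MulAut.smul_def, MulAut.conj_apply]
    have e : g⁻¹ * (g * w * g⁻¹) * g⁻¹⁻¹ = w := by group
    rw [e]
    exact hR (Subgroup.mem_zpowers w)
  have h3 : IsConj w (g * w * g⁻¹) := isConj_iff.2 ⟨g, rfl⟩
  refine h3.trans (hS2 _ hm ?_ ?_)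
  · calc g * w * g⁻¹ * (g * w * g⁻¹) = g * (w * w) * g⁻¹ := by group
      _ = 1 := by rw [hw]; group
  · intro h4
    apply hw1
    calc w = g⁻¹ * (g * w * g⁻¹) * g := by group
      _ = 1 := by rw [h4]; group

/-- the centre of `S` is `⟨f⟩` -/
theorem center_S {y : ON} (hy : y ∈ S hs) (hc : ∀ x ∈ S hs, x * y = y * x) : y = 1 ∨ y = on .f := by
  have hya : y * on .a = on .a * y := (hc _ (T0_le_S hs (a_mem hs))).symm
  have hyT : y ∈ T0 := mem_T0 hs (S_le hs hy) hya
  obtain ⟨w, hw, rfl⟩ := comm_cd hs hyT (hc _ (T0_le_S hs c_mem)).symm (hc _ (T0_le_S hs d_mem)).symm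
  have hsS : TupS.s ∈ S hs := Or.inr (by rw [ss hs]; exact T0.one_mem)
  have hsa : TupS.s * on .a ≠ on .a * TupS.s := fun h => s_not_mem hs (mem_T0 hs s_mem h)
  have hsf : TupS.s * on .f = on .f * TupS.s := mem_K0.1 s_mem
  simp only [exV, List.mem_cons, List.not_mem_nil, or_false] at hw
  rcases hw with rfl | rfl | rfl | rfl
  · exact Or.inl (ev_nil _)
  · exfalso
    apply hsa
    have h := hc _ hsS
    rw [gg_eq hs] at h
    have hff := ff hs
    calc TupS.s * on .a = TupS.s * (on .a * on .f) * on .f := by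
          rw [mul_assoc TupS.s, mul_assoc (on .a), hff, mul_one]
      _ = on .a * on .f * (TupS.s * on .f) := by rw [h, mul_assoc]
      _ = on .a * on .f * (on .f * TupS.s) := by rw [hsf]
      _ = on .a * (on .f * on .f) * TupS.s := by group
      _ = on .a * TupS.s := by rw [hff, mul_one]
  · exfalso
    apply hsa
    have h := hc _ hsS
    rwa [a_eq hs] at h
  · right
    exact f_eq hs

/-! ### The odd core of the centraliser -/

/-- **`O(C(f)) = 1`**: `a`, `b`, `c` invert an odd normal subgroup, `a f = (c d)^4`. -/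
theorem odd_core (I : Subgroup ON) (hI : ∀ i ∈ I, i * on .f = on .f * i)
    (hn : ∀ c : ON, c * on .f = on .f * c → ∀ i ∈ I, c * i * c⁻¹ ∈ I) (hodd : Odd (Nat.card I)) : I = ⊥ := by
  have := finite_ON
  -- an element of `I` commuting with `a` is trivial
  have hfree : ∀ i ∈ I, i * on .a = on .a * i → i = 1 := by
    intro i hi h
    have h1 : i ∈ T0 := mem_T0 hs (mem_K0.2 (hI i hi)) h
    have h2 : orderOf i ∣ 256 := by
      rw [← card_T0 hs Cent.card_K0]
      have := orderOf_dvd_natCard (⟨i, h1⟩ : T0)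
      rwa [Subgroup.orderOf_mk] at this
    have h3 : orderOf i ∣ Nat.card I := by
      have := orderOf_dvd_natCard (⟨i, hi⟩ : I)
      rwa [Subgroup.orderOf_mk] at this
    have h4 : Nat.Coprime 256 (Nat.card I) := by
      rw [show (256 : ℕ) = 2 ^ 8 by norm_num]
      exact Nat.Coprime.pow_left 8 hodd.coprime_two_left
    exact orderOf_eq_one_iff.1 (Nat.eq_one_of_dvd_coprimes h4 h2 h3)
  have haf : on .a * on .f = on .f * on .a := af_comm
  have haa := aa hs
  have hia : (on .a)⁻¹ = on .a := inv_of_sq haa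
  -- `a` inverts `I`
  have hinvA : ∀ i ∈ I, on .a * i * (on .a)⁻¹ = i⁻¹ := by
    let φ : I →* I :=
      { toFun := fun i => ⟨on .a * i * (on .a)⁻¹, hn _ haf i i.2⟩
        map_one' := Subtype.ext (by simp)
        map_mul' := fun x y => Subtype.ext (by
          show on .a * (x * y) * (on .a)⁻¹ = on .a * x * (on .a)⁻¹ * (on .a * y * (on .a)⁻¹)
          group) }
    have hfp : MonoidHom.FixedPointFree φ := by
      intro i hi
      have h1 : on .a * (i : ON) * (on .a)⁻¹ = i := congrArg Subtype.val hi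
      have h2 : (i : ON) * on .a = on .a * i := by
        calc (i : ON) * on .a = on .a * i * (on .a)⁻¹ * on .a := by rw [h1]
          _ = on .a * i := by group
      exact Subtype.ext (hfree i i.2 h2)
    have hinv : Function.Involutive φ := by
      intro i
      apply Subtype.ext
      show on .a * (on .a * i * (on .a)⁻¹) * (on .a)⁻¹ = i
      rw [hia]
      calc on .a * (on .a * (i : ON) * on .a) * on .a = (on .a * on .a) * i * (on .a * on .a) := by group
        _ = i := by rw [haa, one_mul, mul_one]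
    have h := hfp.coe_eq_inv_of_involutive hinv
    intro i hi
    have h1 := congrFun h ⟨i, hi⟩
    exact congrArg Subtype.val h1
  -- so do the conjugates of `a` in `C(f)`
  have hconj : ∀ x y z : ON, x * on .f = on .f * x → (∀ i ∈ I, y * i * y⁻¹ = i⁻¹) → x * y * x⁻¹ = z →
      ∀ i ∈ I, z * i * z⁻¹ = i⁻¹ := by
    intro x y z hx hy hz i hi
    have hx' : x⁻¹ * on .f = on .f * x⁻¹ := by
      rw [inv_mul_eq_iff_eq_mul, ← mul_assoc, hx, mul_assoc, mul_inv_cancel, mul_one]
    have h1 := hn x⁻¹ hx' i hi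
    have h2 := hy _ h1
    rw [← hz]
    calc x * y * x⁻¹ * i * (x * y * x⁻¹)⁻¹ = x * (y * (x⁻¹ * i * x⁻¹⁻¹) * y⁻¹) * x⁻¹ := by group
      _ = i⁻¹ := by rw [h2]; group
  have bff : on .b * on .f = on .f * on .b := bf hs
  have cff : on .c * on .f = on .f * on .c := comm_f hs c_mem
  have dff : on .d * on .f = on .f * on .d := comm_f hs d_mem
  have hmulf : ∀ x y : ON, x * on .f = on .f * x → y * on .f = on .f * y → x * y * on .f = on .f * (x * y) := by
    intro x y hx hy
    rw [mul_assoc, hy, ← mul_assoc, hx, mul_assoc]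
  have hinvB : ∀ i ∈ I, on .b * i * (on .b)⁻¹ = i⁻¹ := by
    refine hconj (on .a * on .b) (on .a) (on .b) (hmulf _ _ haf bff) hinvA ?_
    have h : eqJ [5, 6, 5] [6, 5, 6] = true := by decide +kernel
    have := eqJ_spec hs h
    simp only [ev_cons, ev_nil, mul_one] at this
    have h2 : on .a * on .b * on .a = on .b * on .a * on .b := by rw [mul_assoc, mul_assoc]; exact this
    rw [h2]; group
  have hinvC : ∀ i ∈ I, on .c * i * (on .c)⁻¹ = i⁻¹ := by
    refine hconj (on .b * on .c) (on .b) (on .c) (hmulf _ _ bff cff) hinvB ?_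
    have h : eqJ [6, 0, 6] [0, 6, 0] = true := by decide +kernel
    have := eqJ_spec hs h
    simp only [ev_cons, ev_nil, mul_one] at this
    have h2 : on .b * on .c * on .b = on .c * on .b * on .c := by rw [mul_assoc, mul_assoc]; exact this
    rw [h2]; group
  have hdd : on .d * on .d = 1 := by
    have h : eqJ [1, 1] [] = true := by decide +kernel
    have := eqJ_spec hs h
    simp only [ev_cons, ev_nil, mul_one] at this
    exact this
  have hcd4 : on .a * on .f = (on .c * on .d) ^ 4 := by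
    have h := eqJ_spec hs (show eqJ [5, 7] [0, 1, 0, 1, 0, 1, 0, 1] = true by decide +kernel)
    simp only [ev_cons, ev_nil, mul_one] at h
    have h' : on .a * on .f = on .c * (on .d * (on .c * (on .d * (on .c * (on .d * (on .c * on .d)))))) := h
    rw [h']; simp only [pow_succ, pow_zero, one_mul, mul_assoc]
  have hdI : ∀ i ∈ I, on .d * i * (on .d)⁻¹ ∈ I := hn _ dff
  have hτ : ∀ i ∈ I, on .c * on .d * i * (on .c * on .d)⁻¹ = on .d * i⁻¹ * (on .d)⁻¹ := by
    intro i hi
    calc on .c * on .d * i * (on .c * on .d)⁻¹ = on .c * (on .d * i * (on .d)⁻¹) * (on .c)⁻¹ := by group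
      _ = (on .d * i * (on .d)⁻¹)⁻¹ := hinvC _ (hdI i hi)
      _ = _ := by group
  have hidd : (on .d)⁻¹ = on .d := inv_eq_of_mul_eq_one_right hdd
  have hτ2 : ∀ i ∈ I, (on .c * on .d) ^ 2 * i * ((on .c * on .d) ^ 2)⁻¹ = i := by
    intro i hi
    have h1 := hτ i hi
    have h2 := hτ _ (hdI _ (I.inv_mem hi))
    calc (on .c * on .d) ^ 2 * i * ((on .c * on .d) ^ 2)⁻¹
        = on .c * on .d * (on .c * on .d * i * (on .c * on .d)⁻¹) * (on .c * on .d)⁻¹ := by
          rw [pow_two]; group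
      _ = on .d * (on .d * i⁻¹ * (on .d)⁻¹)⁻¹ * (on .d)⁻¹ := by rw [h1, h2]
      _ = on .d * on .d * i * (on .d)⁻¹ * (on .d)⁻¹ := by group
      _ = (on .d * on .d) * i * (on .d * on .d) := by rw [hidd]; group
      _ = i := by rw [hdd, one_mul, mul_one]
  rw [eq_bot_iff]
  intro i hi
  rw [Subgroup.mem_bot]
  apply hfree i hi
  have h1 := hτ2 i hi
  have h2 : (on .c * on .d) ^ 4 * i * ((on .c * on .d) ^ 4)⁻¹ = i := by
    have e : (on .c * on .d) ^ 4 = (on .c * on .d) ^ 2 * (on .c * on .d) ^ 2 := by rw [← pow_add]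
    rw [e]
    calc (on .c * on .d) ^ 2 * (on .c * on .d) ^ 2 * i * ((on .c * on .d) ^ 2 * (on .c * on .d) ^ 2)⁻¹
        = (on .c * on .d) ^ 2 * ((on .c * on .d) ^ 2 * i * ((on .c * on .d) ^ 2)⁻¹) * ((on .c * on .d) ^ 2)⁻¹ := by
          group
      _ = i := by rw [h1, h1]
  rw [← hcd4] at h2
  have h3 : on .a * on .f * i = i * (on .a * on .f) := by
    calc on .a * on .f * i = (on .a * on .f * i * (on .a * on .f)⁻¹) * (on .a * on .f) := by group
      _ = _ := by rw [h2]
  have hff := ff hs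
  have hfi := hI i hi
  calc i * on .a = i * (on .a * on .f) * on .f := by
        rw [mul_assoc i, mul_assoc (on .a), hff, mul_one]
    _ = on .a * on .f * i * on .f := by rw [h3]
    _ = on .a * (on .f * (i * on .f)) := by group
    _ = on .a * (on .f * (on .f * i)) := by rw [hfi]
    _ = on .a * ((on .f * on .f) * i) := by group
    _ = on .a * i := by rw [hff, one_mul]

end Cfsg.Agent.KFacts.ON.OneClass
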