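import Cfsg.Agent.KFacts.ON.Struct
import Cfsg.Prelude.Def_CaseTheorems

/-!
# `J = C(v)` is quasisimple

`SJ = S ∩ J` is a Sylow 2-subgroup of `J`; `E = ⟨f, a, s3⟩`; `E⟨v⟩/⟨v⟩` is the centre of `SJ/⟨v⟩`.
-/

set_option autoImplicit false
set_option maxRecDepth 100000

namespace Cfsg.Agent.KFacts.ON.Qs

open Subgroup
open Cfsg.Spor (ON)
open Cfsg.Spor.ON (Gen)
open Cfsg.Agent.SporadicB.ON45Word (on)
open Cfsg.Agent.KFacts.MulSpor.ON (w w_append w_one w_cons w_iw iw eqw cj)
open Cfsg.Agent.KFacts.ON.Cent (hON finite_ON cen card_K0)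
open Cfsg.Agent.KFacts.ON.Words Cfsg.Agent.KFacts.ON.Struct
open Cfsg.Agent.ONType
open Cfsg.Agent.ONType.TupK (K0)
open Cfsg.Agent.ONType.TupRow (gJ eqJ neJ eqJ_spec neJ_spec)
open Cfsg.Agent.ONType.TupT0 (T0 exists_T0)
open Cfsg.Agent.SporadicRecognition.CosetCert (ev ev_nil ev_cons ev_append)
open scoped commutatorElement

/-! ### The subgroup `E` -/

theorem faC : Commute (on .f) (on .a) := by
  show on .f * on .a = on .a * on .f
  have h : w [.f, .a] = w [.a, .f] := Words.eq _ _ (by decide +kernel)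
  simpa [w] using h

theorem fsC : Commute (on .f) s3 := by
  show on .f * s3 = s3 * on .f
  rw [← wf, s3, ← w_append, ← w_append]
  exact Words.eq _ _ (by decide +kernel)

theorem asC : Commute (on .a) s3 := by
  show on .a * s3 = s3 * on .a
  rw [← wa, s3, ← w_append, ← w_append]
  exact Words.eq _ _ (by decide +kernel)

theorem s3s3 : s3 * s3 = 1 := by
  rw [s3, ← w_append]
  exact Words.eq _ [] (by decide +kernel)

theorem s3J : s3 ∈ J := by
  rw [mem_J, s3, v, ← w_append, ← w_append]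
  exact Words.eq _ _ (by decide +kernel)

/-- the product `f^i a^j s3^k` -/
def el (i j k : ℕ) : ON := on .f ^ i * on .a ^ j * s3 ^ k

theorem el_mul (i j k i' j' k' : ℕ) : el i j k * el i' j' k' = el (i + i') (j + j') (k + k') := by
  unfold el
  have h1 : Commute (s3 ^ k) (on .f ^ i') := (fsC.symm.pow_pow _ _)
  have h2 : Commute (s3 ^ k) (on .a ^ j') := (asC.symm.pow_pow _ _)
  have h3 : Commute (on .a ^ j) (on .f ^ i') := (faC.symm.pow_pow _ _)
  calc on .f ^ i * on .a ^ j * s3 ^ k * (on .f ^ i' * on .a ^ j' * s3 ^ k')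
      = on .f ^ i * on .a ^ j * (s3 ^ k * on .f ^ i') * on .a ^ j' * s3 ^ k' := by group
    _ = on .f ^ i * (on .a ^ j * on .f ^ i') * (s3 ^ k * on .a ^ j') * s3 ^ k' := by rw [h1.eq]; group
    _ = on .f ^ i * (on .f ^ i' * on .a ^ j) * (on .a ^ j' * s3 ^ k) * s3 ^ k' := by rw [h2.eq, h3.eq]
    _ = (on .f ^ i * on .f ^ i') * (on .a ^ j * on .a ^ j') * (s3 ^ k * s3 ^ k') := by group
    _ = _ := by rw [← pow_add, ← pow_add, ← pow_add]

theorem el_sq (i j k : ℕ) : el i j k * el i j k = 1 := by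
  rw [el_mul]
  unfold el
  rw [← two_mul, ← two_mul, ← two_mul, pow_mul, pow_mul, pow_mul, pow_two, pow_two, pow_two, ff, aa, s3s3,
    one_pow, one_pow, one_pow, one_mul, one_mul]

/-- the group `⟨f, a, s3⟩` of order 8 -/
def E : Subgroup ON where
  carrier := {x | ∃ i j k, x = el i j k}
  one_mem' := ⟨0, 0, 0, by simp [el]⟩
  mul_mem' := by
    rintro _ _ ⟨i, j, k, rfl⟩ ⟨i', j', k', rfl⟩
    exact ⟨_, _, _, el_mul _ _ _ _ _ _⟩
  inv_mem' := by
    rintro _ ⟨i, j, k, rfl⟩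
    exact ⟨i, j, k, inv_eq_of_mul_eq_one_right (el_sq i j k)⟩

theorem mem_E {x : ON} : x ∈ E ↔ ∃ i j k, x = el i j k := Iff.rfl

theorem E_sq {x : ON} (hx : x ∈ E) : x * x = 1 := by
  obtain ⟨i, j, k, rfl⟩ := hx
  exact el_sq i j k

theorem fE : on .f ∈ E := ⟨1, 0, 0, by simp [el]⟩
theorem aE : on .a ∈ E := ⟨0, 1, 0, by simp [el]⟩
theorem sE : s3 ∈ E := ⟨0, 0, 1, by simp [el]⟩

theorem E_comm {x y : ON} (hx : x ∈ E) (hy : y ∈ E) : x * y = y * x := by
  obtain ⟨i, j, k, rfl⟩ := hx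
  obtain ⟨i', j', k', rfl⟩ := hy
  rw [el_mul, el_mul, Nat.add_comm i, Nat.add_comm j, Nat.add_comm k]

theorem EJ : E ≤ J := by
  rintro _ ⟨i, j, k, rfl⟩
  exact J.mul_mem (J.mul_mem (J.pow_mem fJ _) (J.pow_mem aJ _)) (J.pow_mem s3J _)

theorem pow_two_cases {x : ON} (h : x * x = 1) (n : ℕ) : x ^ n = 1 ∨ x ^ n = x := by
  rcases Nat.even_or_odd' n with ⟨m, rfl | rfl⟩
  · left; rw [pow_mul, pow_two, h, one_pow]
  · right; rw [pow_succ, pow_mul, pow_two, h, one_pow, one_mul]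

theorem E_cases {x : ON} (hx : x ∈ E) : x = 1 ∨ x = on .f ∨ x = on .a ∨ x = on .f * on .a ∨ x = s3 ∨
    x = on .f * s3 ∨ x = on .a * s3 ∨ x = on .f * on .a * s3 := by
  obtain ⟨i, j, k, rfl⟩ := hx
  unfold el
  rcases pow_two_cases ff i with h1 | h1 <;> rcases pow_two_cases aa j with h2 | h2 <;>
    rcases pow_two_cases s3s3 k with h3 | h3 <;> rw [h1, h2, h3] <;> simp

/-! ### Powers of `v` -/

theorem v4 : v ^ 4 = 1 := by
  have : v ^ 4 = (v * v) * (v * v) := by simp [pow_succ, mul_assoc]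
  rw [this, vv, ff]

theorem zv_cases {u : ON} (hu : u ∈ zpowers v) : u = 1 ∨ u = v ∨ u = on .f ∨ u = on .f * v := by
  obtain ⟨n, rfl⟩ := mem_zpowers_iff.1 hu
  have h4 : v ^ (4 : ℤ) = 1 := by exact_mod_cast v4
  have h : v ^ n = v ^ (n % 4) := by
    conv_lhs => rw [← Int.emod_add_mul_ediv n 4, zpow_add, zpow_mul, h4, one_zpow, mul_one]
  rw [h]
  have h1 := Int.emod_nonneg n (show (4 : ℤ) ≠ 0 by norm_num)
  have h2 := Int.emod_lt_of_pos n (show (0 : ℤ) < 4 by norm_num)
  obtain ⟨m, hm⟩ : ∃ m, m = n % 4 := ⟨_, rfl⟩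
  rw [← hm] at h1 h2 ⊢
  interval_cases m
  · left; simp
  · right; left; simp
  · right; right; left
    rw [← vv]; exact zpow_two v
  · right; right; right
    rw [← vv]
    rfl

theorem zv_comm {u x : ON} (hu : u ∈ zpowers v) (hx : x ∈ J) : x * u = u * x := by
  obtain ⟨n, rfl⟩ := mem_zpowers_iff.1 hu
  have h : Commute x v := mem_J.1 hx
  exact h.zpow_right n

/-! ### The Sylow subgroup of `J` -/

theorem s_eq : TupS.s = s := by
  have h : eqJ [6, 5, 0, 6, 1, 0, 6, 1, 3, 6, 0, 2, 6] [6, 5, 0, 6, 1, 0, 6, 1, 2, 2, 2, 6, 0, 2, 6] = true := by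
    decide +kernel
  have h1 := eqJ_spec hs h
  have h2 : TupS.s = ev gJ [6, 5, 0, 6, 1, 0, 6, 1, 3, 6, 0, 2, 6] := rfl
  rw [h2, h1]
  simp only [ev_cons, ev_nil, gJ, s, w, List.map_cons, List.map_nil, List.prod_cons, List.prod_nil]

/-- the Sylow 2-subgroup of `J` -/
def SJ : Subgroup ON := TupS.S hs ⊓ J

theorem T0_le_S : T0 ≤ TupS.S hs := TupS.T0_le_S hs

theorem cSJ : on .c ∈ SJ := ⟨T0_le_S TupT0.c_mem, cJ⟩

theorem dgJ : on .d * on .g ∈ J := by
  rw [mem_J]
  have h : w ([.d, .g] ++ [.a, .d, .g, .d, .g]) = w ([.a, .d, .g, .d, .g] ++ [.d, .g]) :=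
    Words.eq _ _ (by decide +kernel)
  rw [w_append, w_append, w_cons, w_one] at h
  exact h

theorem dgSJ : on .d * on .g ∈ SJ := ⟨T0_le_S (T0.mul_mem TupT0.d_mem TupT0.g_mem), dgJ⟩

theorem sS : s ∈ TupS.S hs := by
  rw [← s_eq]
  right
  rw [TupS.ss hs]; exact T0.one_mem

theorem sSJ : s ∈ SJ := ⟨sS, sJ⟩

theorem aSJ : on .a ∈ SJ := ⟨T0_le_S (TupT0.a_mem hs), aJ⟩
theorem fSJ : on .f ∈ SJ := ⟨T0_le_S (TupT0.f_mem hs), fJ⟩

theorem vT : v ∈ T0 := T0.mul_mem (TupT0.a_mem hs) (by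
  exact T0.mul_mem TupT0.d_mem (T0.mul_mem TupT0.g_mem (T0.mul_mem TupT0.d_mem (T0.mul_mem TupT0.g_mem T0.one_mem))))

theorem vSJ : v ∈ SJ := ⟨T0_le_S vT, vJ⟩

theorem s3T : s3 ∈ T0 := by
  simp only [s3, w, List.map_cons, List.map_nil, List.prod_cons, List.prod_nil, mul_one]
  exact T0.mul_mem TupT0.c_mem (T0.mul_mem TupT0.d_mem (T0.mul_mem TupT0.g_mem (T0.mul_mem TupT0.c_mem
    (T0.mul_mem TupT0.d_mem TupT0.g_mem))))

theorem ESJ : E ≤ SJ := by
  rintro _ ⟨i, j, k, rfl⟩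
  exact SJ.mul_mem (SJ.mul_mem (SJ.pow_mem fSJ _) (SJ.pow_mem aSJ _)) (SJ.pow_mem ⟨T0_le_S s3T, s3J⟩ _)

theorem dS : on .d ∈ TupS.S hs := T0_le_S TupT0.d_mem

theorem index_SJ : (SJ.subgroupOf (TupS.S hs)).index = 2 := by
  rw [Subgroup.index_eq_two_iff]
  refine ⟨⟨on .d, dS⟩, ?_⟩
  rintro ⟨x, hx⟩
  rw [Subgroup.mem_subgroupOf, Subgroup.mem_subgroupOf]
  show Xor (x * on .d ∈ SJ) (x ∈ SJ)
  have hnot : ¬ (x * on .d ∈ SJ ∧ x ∈ SJ) := by
    rintro ⟨h2, h3⟩
    apply d_not_mem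
    have := J.mul_mem (J.inv_mem h3.2) h2.2
    rwa [inv_mul_cancel_left] at this
  rcases mem_J_or (TupS.S_le hs hx) with h | h
  · exact Or.inr ⟨⟨hx, h⟩, fun h' => hnot ⟨h', ⟨hx, h⟩⟩⟩
  · exact Or.inl ⟨⟨(TupS.S hs).mul_mem hx dS, h⟩, fun h' => hnot ⟨⟨(TupS.S hs).mul_mem hx dS, h⟩, h'⟩⟩

theorem card_S : Nat.card (TupS.S hs) = 512 := TupS.card_S hs card_K0

theorem card_SJ : Nat.card SJ = 256 := by
  have h2 := Subgroup.card_mul_index (SJ.subgroupOf (TupS.S hs))
  have hle : SJ ≤ TupS.S hs := inf_le_left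
  rw [index_SJ, Nat.card_congr (Subgroup.subgroupOfEquivOfLe hle).toEquiv, card_S] at h2
  omega

theorem SJ_le : SJ ≤ J := inf_le_right

theorem card_sub : Nat.card (SJ.subgroupOf J) = 256 := by
  rw [Nat.card_congr (Subgroup.subgroupOfEquivOfLe SJ_le).toEquiv, card_SJ]

/-- `SJ` as a Sylow subgroup of `J` -/
noncomputable def sylJ : Sylow 2 J :=
  haveI : Fact (Nat.Prime 2) := ⟨Nat.prime_two⟩
  (IsPGroup.of_card (n := 8) (by rw [card_sub]; norm_num) : IsPGroup 2 (SJ.subgroupOf J)).toSylow (by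
    have h2 := Subgroup.card_mul_index (SJ.subgroupOf J)
    rw [card_sub, card_J] at h2
    have h3 : (SJ.subgroupOf J).index = 315 := by omega
    rw [h3]; norm_num)

theorem mem_sylJ {x : J} : x ∈ sylJ ↔ (x : ON) ∈ SJ := Iff.rfl

/-! ### The centre modulo `⟨v⟩` -/

def sw : List ℕ := [6, 5, 0, 6, 1, 0, 6, 1, 3, 6, 0, 2, 6]
def vw : List ℕ := [5, 1, 2, 1, 2]
def vl : List (List ℕ) := [[], vw, [7], 7 :: vw]
def el8 : List (List ℕ) := [[], [7], [5], [7, 5], [0, 1, 2, 0, 1, 2], [7, 0, 1, 2, 0, 1, 2], [5, 0, 1, 2, 0, 1, 2],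
  [7, 5, 0, 1, 2, 0, 1, 2]]

noncomputable def allne (x y : List ℕ) : Bool := vl.all fun u => neJ (x ++ y) (u ++ (y ++ x))

theorem ev_sw : ev gJ sw = s := s_eq

theorem ev_vw : ev gJ vw = v := by
  simp only [vw, ev_cons, ev_nil, gJ, v, w, List.map_cons, List.map_nil, List.prod_cons, List.prod_nil]

theorem ev_s3 : ev gJ [0, 1, 2, 0, 1, 2] = s3 := by
  simp only [ev_cons, ev_nil, gJ, s3, w, List.map_cons, List.map_nil, List.prod_cons, List.prod_nil]

theorem allne_spec {x y : List ℕ} (h : allne x y = true) {u : ON} (hu : u ∈ zpowers v) :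
    ev gJ x * ev gJ y ≠ u * (ev gJ y * ev gJ x) := by
  have h1 := fun l hl => neJ_spec (List.all_eq_true.1 h l hl)
  simp only [ev_append] at h1
  rcases zv_cases hu with rfl | rfl | rfl | rfl
  · have := h1 [] (by simp [vl])
    rwa [ev_nil] at this
  · have := h1 vw (by simp [vl])
    rwa [ev_vw] at this
  · have := h1 [7] (by simp [vl])
    rw [ev_cons, ev_nil, mul_one] at this
    exact this
  · have := h1 (7 :: vw) (by simp [vl])
    rw [ev_cons, ev_vw] at this
    exact this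

theorem el8_mem {l : List ℕ} (hl : l ∈ el8) : ev gJ l ∈ E := by
  simp only [el8, List.mem_cons, List.not_mem_nil, or_false] at hl
  have h7 : gJ 7 = on .f := rfl
  have h5 : gJ 5 = on .a := rfl
  rcases hl with rfl | rfl | rfl | rfl | rfl | rfl | rfl | rfl
  · rw [ev_nil]; exact E.one_mem
  · rw [ev_cons, ev_nil, mul_one, h7]; exact fE
  · rw [ev_cons, ev_nil, mul_one, h5]; exact aE
  · rw [ev_cons, ev_cons, ev_nil, mul_one, h7, h5]; exact E.mul_mem fE aE
  · rw [ev_s3]; exact sE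
  · rw [ev_cons, ev_s3, h7]; exact E.mul_mem fE sE
  · rw [ev_cons, ev_s3, h5]; exact E.mul_mem aE sE
  · rw [ev_cons, ev_cons, ev_s3, h5, h7]; exact E.mul_mem fE (E.mul_mem aE sE)

/-- elements of `S` commuting with `c, dg, s` modulo `⟨v⟩` are in `E⟨v⟩` -/
theorem center_mod {x : ON} (hx : x ∈ TupS.S hs) (h : ∀ y ∈ SJ, ∃ u ∈ zpowers v, x * y = u * (y * x)) :
    ∃ e ∈ E, x = e ∨ x = e * v := by
  rcases hx with hx | hx
  · have hQ : TupCover.allLive TupTData.C (fun _ w => allne w [0] || allne w [1, 2] || allne w sw ||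
      el8.any fun u => eqJ w u || eqJ w (u ++ vw)) = true := by decide +kernel
    obtain ⟨l, -, h1, h2⟩ := exists_T0 hs hQ hx
    rcases Bool.or_eq_true_iff.1 h1 with h3 | h3
    · exfalso
      rcases Bool.or_eq_true_iff.1 h3 with h3 | h3
      · rcases Bool.or_eq_true_iff.1 h3 with h3 | h3
        · obtain ⟨u, hu, h4⟩ := h _ cSJ
          apply allne_spec h3 hu
          rw [← h2, ev_cons, ev_nil, mul_one]
          exact h4
        · obtain ⟨u, hu, h4⟩ := h _ dgSJ
          apply allne_spec h3 hu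
          rw [← h2, ev_cons, ev_cons, ev_nil, mul_one]
          exact h4
      · obtain ⟨u, hu, h4⟩ := h _ sSJ
        apply allne_spec h3 hu
        rw [← h2, ev_sw]
        exact h4
    · obtain ⟨u, hu, h4⟩ := List.any_eq_true.1 h3
      refine ⟨_, el8_mem hu, ?_⟩
      rcases Bool.or_eq_true_iff.1 h4 with h5 | h5
      · left
        rw [h2]; exact eqJ_spec hs h5
      · right
        have := eqJ_spec hs h5
        rw [ev_append, ev_vw] at this
        rw [h2]; exact this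
  · exfalso
    have hQ : TupCover.allLive TupTData.C (fun _ w => allne (w ++ sw) [0] || allne (w ++ sw) [1, 2] ||
      allne (w ++ sw) sw) = true := by decide +kernel
    rw [s_eq] at hx
    obtain ⟨l, -, h1, h2⟩ := exists_T0 hs hQ hx
    have hss : s * s = 1 := by rw [← s_eq]; exact TupS.ss hs
    have h3 : x = ev gJ (TupCover.nword TupTData.C l ++ sw) := by
      rw [ev_append, ev_sw, ← h2, mul_assoc, hss, mul_one]
    rcases Bool.or_eq_true_iff.1 h1 with h4 | h4
    · rcases Bool.or_eq_true_iff.1 h4 with h4 | h4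
      · obtain ⟨u, hu, h5⟩ := h _ cSJ
        apply allne_spec h4 hu
        rw [← h3, ev_cons, ev_nil, mul_one]
        exact h5
      · obtain ⟨u, hu, h5⟩ := h _ dgSJ
        apply allne_spec h4 hu
        rw [← h3, ev_cons, ev_cons, ev_nil, mul_one]
        exact h5
    · obtain ⟨u, hu, h5⟩ := h _ sSJ
      apply allne_spec h4 hu
      rw [← h3, ev_sw]
      exact h5

/-! ### Conjugacy in `E` -/

theorem conj_aux {l : List Gen} {m : List Gen}
    (h1 : MulSpor.ON.okw (l ++ [.a] ++ iw (m ++ l)) = true)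
    (h2 : MulSpor.ON.okw ((l ++ [.a, .d, .g, .d, .g]) ++ iw ([.a, .d, .g, .d, .g] ++ l)) = true) :
    ∃ g ∈ J, g * on .a * g⁻¹ = w m := by
  refine ⟨w l, ?_, ?_⟩
  · rw [mem_J, v, ← w_append, ← w_append]
    exact Words.eq _ _ h2
  · rw [← wa]
    exact Words.conj _ _ _ h1

theorem E_conj {x : ON} (hx : x ∈ E) : x = 1 ∨ x = on .f ∨ ∃ g ∈ J, g * on .a * g⁻¹ = x := by
  rcases E_cases hx with h | h | h | h | h | h | h | h
  · exact Or.inl h
  · exact Or.inr (Or.inl h)
  · right; right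
    exact ⟨1, J.one_mem, by rw [h]; group⟩
  · right; right
    have h1 : x = w [.f, .a] := by rw [h, w_cons, w_one]
    rw [h1]
    exact conj_aux (l := [.b, .g, .g, .g, .c, .b, .g, .d, .b, .c, .d, .b, .c, .a, .b]) (by decide +kernel)
      (by decide +kernel)
  · right; right
    rw [h]
    exact conj_aux (l := [.b, .g, .c, .d, .b, .c, .a, .b, .g, .d, .c, .b]) (by decide +kernel)
      (by decide +kernel)
  · right; right
    have h1 : x = w (.f :: [.c, .d, .g, .c, .d, .g]) := by rw [h, w_cons]; rfl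
    rw [h1]
    exact conj_aux (l := [.b, .c, .d, .c, .b, .g, .g, .g, .b, .g, .c, .d, .c, .b]) (by decide +kernel)
      (by decide +kernel)
  · right; right
    have h1 : x = w (.a :: [.c, .d, .g, .c, .d, .g]) := by rw [h, w_cons]; rfl
    rw [h1]
    exact conj_aux (l := [.b, .c, .g, .g, .g, .d, .b, .c, .d, .a, .b, .c, .g, .g, .g, .b]) (by decide +kernel)
      (by decide +kernel)
  · right; right
    have h1 : x = w (.f :: .a :: [.c, .d, .g, .c, .d, .g]) := by rw [h, w_cons, w_cons, mul_assoc]; rfl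
    rw [h1]
    exact conj_aux (l := [.b, .g, .g, .g, .c, .d, .c, .b, .g, .b, .c, .d, .c, .b]) (by decide +kernel)
      (by decide +kernel)

/-! ### Quasisimplicity -/

theorem mem_center {x : J} : x ∈ center J ↔ (x : ON) ∈ zpowers v := by
  constructor
  · intro h
    apply cent_J
    intro y hy
    exact (congrArg Subtype.val (mem_center_iff.1 h ⟨y, hy⟩)).symm
  · intro h
    rw [mem_center_iff]
    intro y
    exact Subtype.ext (zv_comm h y.2)

theorem isPerfect_J : Group.IsPerfect J := isPerfect_iff.2 perf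

theorem a_not_zv : on .a ∉ zpowers v := by
  intro h
  have h1 := zv_comm h sJ
  have h2 := sa
  rw [h1, mul_inv_cancel_right] at h2
  apply f_ne_one
  have h3 := congrArg (fun y => (on .a)⁻¹ * y) h2
  simp only [inv_mul_cancel, inv_mul_cancel_left] at h3
  exact h3.symm

theorem simple_J : IsSimpleGroup (J ⧸ center J) := by
  have : Fact (Nat.Prime 2) := ⟨Nat.prime_two⟩
  have := finite_ON
  have := isPerfect_J
  let A : J := ⟨on .a, aJ⟩
  have hA : A ∉ center J := fun h => a_not_zv (mem_center.1 h)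
  have hAne : (QuotientGroup.mk' (center J)) A ≠ 1 := by
    intro h
    exact hA ((QuotientGroup.eq_one_iff _).1 h)
  have : Nontrivial (J ⧸ center J) := ⟨_, _, hAne⟩
  have hmk := QuotientGroup.mk'_surjective (center J)
  refine SimpleCrit.simple_of (a := QuotientGroup.mk' (center J) A) ?_ Group.IsPerfect.commutator_eq_top ?_ ?_
    (sylJ.mapSurjective hmk) ?_
  · rw [← map_mul]
    have : A * A = 1 := Subtype.ext aa
    rw [this, map_one]
  · intro N hN haN
    have h1 : (N.comap (QuotientGroup.mk' (center J))).map J.subtype = J := by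
      apply eq_J_of
      · exact map_subtype_le _
      · rintro k hk _ ⟨x, hx, rfl⟩
        refine ⟨⟨k, hk⟩ * x * ⟨k, hk⟩⁻¹, ?_, rfl⟩
        exact (hN.comap _).conj_mem x hx _
      · exact ⟨A, haN, rfl⟩
    have h2 : N.comap (QuotientGroup.mk' (center J)) = ⊤ := by
      rw [eq_top_iff]
      intro x _
      have h3 : (x : ON) ∈ (N.comap (QuotientGroup.mk' (center J))).map J.subtype := by rw [h1]; exact x.2
      obtain ⟨y, hy, hyx⟩ := h3
      have : y = x := Subtype.ext hyx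
      rwa [← this]
    rw [eq_top_iff]
    intro y _
    obtain ⟨x, rfl⟩ := hmk y
    have : x ∈ N.comap (QuotientGroup.mk' (center J)) := by rw [h2]; exact mem_top x
    exact this
  · intro y hy
    obtain ⟨x, rfl⟩ := hmk y
    rw [← map_mul, ← map_mul] at hy
    have h1 : (A * x)⁻¹ * (x * A) ∈ center J := QuotientGroup.eq.1 hy.symm
    obtain ⟨u, hu⟩ : ∃ u, u = (A * x)⁻¹ * (x * A) := ⟨_, rfl⟩
    rw [← hu] at h1
    -- `x a = a x u`
    have h2 : x * A = A * x * u := by rw [hu]; group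
    have huc : ∀ y : J, y * u = u * y := fun y => mem_center_iff.1 h1 y
    have hAA : A * A = 1 := Subtype.ext aa
    have h3 : x * A * x⁻¹ = A * u := by
      rw [h2, mul_assoc (A * x), ← huc x⁻¹]; group
    have h4 : u * u = 1 := by
      have e1 : (A * u) * (A * u) = 1 := by
        rw [← h3]
        calc x * A * x⁻¹ * (x * A * x⁻¹) = x * (A * A) * x⁻¹ := by group
          _ = 1 := by rw [hAA]; group
      calc u * u = (A * A) * (u * u) := by rw [hAA, one_mul]
        _ = A * (A * u) * u := by group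
        _ = A * (u * A) * u := by rw [huc A]
        _ = (A * u) * (A * u) := by group
        _ = 1 := e1
    have h5 : (x * x) * A = A * (x * x) := by
      calc (x * x) * A = x * (x * A * x⁻¹) * x := by group
        _ = x * (A * u) * x := by rw [h3]
        _ = (x * A * x⁻¹) * (x * u * x) := by group
        _ = A * u * (u * x * x) := by rw [h3, huc x]
        _ = A * (u * u) * (x * x) := by group
        _ = A * (x * x) := by rw [h4, mul_one]
    have h6 : ((x * x : J) : ON) ∈ T0 := by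
      apply TupK.mem_T0 hs (J_le (x * x).2)
      exact congrArg Subtype.val h5
    have h7 : ((x * x : J) : ON) ^ 256 = 1 := by
      have h8 : Nat.card T0 = 256 := TupS.card_T0 hs card_K0
      have h9 := pow_card_eq_one' (x := (⟨_, h6⟩ : T0))
      rw [h8] at h9
      exact congrArg Subtype.val h9
    refine ⟨9, ?_⟩
    rw [← map_pow]
    have h8 : x ^ 2 ^ 9 = 1 := by
      apply Subtype.ext
      have h9 : (x : ON) ^ 2 ^ 9 = ((x * x : J) : ON) ^ 256 := by
        rw [Subgroup.coe_mul, ← pow_two, ← pow_mul]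
        norm_num
      rw [Subgroup.coe_pow, h9, h7]
      rfl
    rw [h8, map_one]
  · intro y hy hyc
    obtain ⟨x, hx, rfl⟩ := (show y ∈ (sylJ : Subgroup J).map (QuotientGroup.mk' (center J)) from hy)
    have hxS : (x : ON) ∈ SJ := hx
    obtain ⟨e, he, h1⟩ := center_mod hxS.1 (by
      intro z hz
      let Z : J := ⟨z, SJ_le hz⟩
      have hZ : Z ∈ sylJ := hz
      have h1 := hyc (QuotientGroup.mk' (center J) Z) ⟨Z, hZ, rfl⟩
      rw [← map_mul, ← map_mul] at h1
      have h2 : (Z * x)⁻¹ * (x * Z) ∈ center J := QuotientGroup.eq.1 h1.symm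
      have h3 := mem_center.1 h2
      refine ⟨_, h3, ?_⟩
      have h4 : ((Z * x : J) : ON) * (((Z * x)⁻¹ * (x * Z) : J) : ON) =
          (((Z * x)⁻¹ * (x * Z) : J) : ON) * ((Z * x : J) : ON) := zv_comm h3 (Z * x).2
      have h5 : ((x * Z : J) : ON) = ((Z * x : J) : ON) * (((Z * x)⁻¹ * (x * Z) : J) : ON) := by
        rw [← Subgroup.coe_mul]; congr 1; group
      calc (x : ON) * z = ((x * Z : J) : ON) := rfl
        _ = _ := h5
        _ = _ := h4
        _ = _ := rfl)
    have hve : ∀ (g : J) (e' : J), (e' : ON) = e → (x : ON) = e' ∨ (x : ON) = e' * v →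
        QuotientGroup.mk' (center J) x = QuotientGroup.mk' (center J) e' := by
      intro _ e' he' h
      rcases h with h | h
      · congr 1
        exact Subtype.ext h
      · have h2 : x = e' * ⟨v, vJ⟩ := Subtype.ext h
        have h3 : QuotientGroup.mk' (center J) ⟨v, vJ⟩ = 1 :=
          (QuotientGroup.eq_one_iff _).2 (mem_center.2 (mem_zpowers v))
        rw [h2, map_mul, h3, mul_one]
    rcases E_conj he with h2 | h2 | ⟨g, hg, h2⟩
    · left
      rw [hve 1 1 h2.symm (by rw [h2] at h1; exact h1), map_one]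
    · left
      rw [hve 1 ⟨on .f, fJ⟩ h2.symm (by rw [h2] at h1; exact h1)]
      apply (QuotientGroup.eq_one_iff _).2
      rw [mem_center]
      show on .f ∈ zpowers v
      rw [← vv]
      exact mul_mem (mem_zpowers v) (mem_zpowers v)
    · right
      refine ⟨QuotientGroup.mk' (center J) ⟨g, hg⟩, ?_⟩
      rw [← map_inv, ← map_mul, ← map_mul]
      symm
      apply hve 1 _ h2
      have h3 : ((⟨g, hg⟩ * A * ⟨g, hg⟩⁻¹ : J) : ON) = e := h2
      rw [h3]
      exact h1

/-- **`J` is quasisimple.** -/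
theorem qs : IsQuasisimple J := ⟨isPerfect_J, simple_J⟩

end Cfsg.Agent.KFacts.ON.Qs
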