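import Cfsg.Agent.KFacts.ON.Aut
import Cfsg.Agent.OddHalf.D8.ON.Sheet

/-!
# The O'Nan group has the fact sheet `SheetON`
-/

set_option autoImplicit false
set_option maxRecDepth 100000

namespace Cfsg.Agent.KFacts.ON.Sheet

open Subgroup
open Cfsg.Spor (ON)
open Cfsg.Agent.SporadicB.ON45Word (on)
open Cfsg.Agent.KFacts.MulSpor.ON (w)
open Cfsg.Agent.KFacts.ON.Cent (hON)
open Cfsg.Agent.KFacts.ON.Words Cfsg.Agent.KFacts.ON.Struct Cfsg.Agent.KFacts.ON.Qs Cfsg.Agent.KFacts.ON.Estar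
open Cfsg.Agent.OddHalf.D8.ON.Sheet

/-- the sheet of the presented O'Nan group -/
theorem sheet : SheetON (on .f) v J E where
  basic := Aut.basic
  vv := vv
  Pv := fun _ => mem_J
  qs := qs
  cenP := fun _ h => cent_J h
  autP := fun _ h => Aut.autJ h
  zE := fE
  EP := EJ
  ee := fun _ h => E_sq h
  ec := fun _ h _ h' => E_comm h h'
  estar := by
    intro β
    obtain ⟨n, hn, h⟩ := estar β
    exact ⟨n, mem_K0.1 hn, h⟩
  kk := fun _ he h1 => kk he h1
  rel := by
    have h1 : (w Wa)⁻¹ * on .f * (w Wa)⁻¹⁻¹ = on .a := by rw [← Wa_a]; group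
    have h2 : (w Waf)⁻¹ * on .f * (w Waf)⁻¹⁻¹ = on .f * on .a := by
      have h3 : w Waf * (on .f * on .a) * (w Waf)⁻¹ = on .f := by
        have h4 : w Waf * (on .f * on .a) * (w Waf)⁻¹ =
            (w Waf * on .f * (w Waf)⁻¹) * (w Waf * on .a * (w Waf)⁻¹) := by group
        rw [h4, Waf_f, Waf_a]
        calc on .a * on .f * on .a = on .a * (on .f * on .a) := by group
          _ = (on .a * on .a) * on .f := by rw [faC.eq]; group
          _ = on .f := by rw [aa, one_mul]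
      nth_rewrite 1 [← h3]; group
    refine ⟨(w Wa)⁻¹, (w Waf)⁻¹, s3, inv_norm WaE, inv_norm WafE, sE, s3_not.1, s3_not.2.1, ?_, ?_, ?_, ?_⟩
    · rw [h1]; exact s3_not.2.2.1
    · rw [h1]; exact s3_not.2.2.2
    · rw [h1]; exact h2
    · rw [rel]; exact E.mul_mem fE sE

/-- **the sheet of a group isomorphic to the O'Nan group** -/
theorem exists_sheet {K : Type*} [Group K] (h : Spor.IsoON K) :
    ∃ (z v : K) (P E : Subgroup K), SheetON z v P E := by
  obtain ⟨e⟩ := h
  exact ⟨_, _, _, _, sheetON_map e.symm sheet⟩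

end Cfsg.Agent.KFacts.ON.Sheet
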