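import Cfsg.Agent.Transfer.PGroupNormal

/-!
# A criterion for simplicity

`Q` perfect, `a ∈ Q` an involution with normal closure `Q`, `C(a)` a 2-group, the central involutions of a Sylow
2-subgroup are conjugate to `a`: then `Q` is simple.
-/

set_option autoImplicit false

namespace Cfsg.Agent.KFacts.ON.SimpleCrit

open Subgroup

variable {Q : Type*} [Group Q] [Finite Q]

/-- the automorphism of a normal subgroup induced by an element is inversion, if fixed-point-free and involutive -/
theorem inverts {N : Subgroup Q} (hN : N.Normal) {a : Q} (haa : a * a = 1)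
    (h : ∀ x ∈ N, x * a = a * x → x = 1) {x : Q} (hx : x ∈ N) : a * x * a⁻¹ = x⁻¹ := by
  let φ : N →* N := (MulAut.conjNormal a).toMonoidHom
  have hφ : MonoidHom.FixedPointFree φ := by
    intro g hg
    have h1 : a * (g : Q) * a⁻¹ = g := congrArg Subtype.val hg
    have h2 := h g g.2 (by rw [mul_inv_eq_iff_eq_mul] at h1; exact h1.symm)
    exact Subtype.ext h2
  have hinv : Function.Involutive φ := by
    intro g
    apply Subtype.ext
    show a * (a * (g : Q) * a⁻¹) * a⁻¹ = g
    have : a⁻¹ = a := inv_eq_of_mul_eq_one_right haa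
    rw [this]
    calc a * (a * (g : Q) * a) * a = (a * a) * g * (a * a) := by group
      _ = g := by rw [haa, one_mul, mul_one]
  have h1 := congrFun (MonoidHom.FixedPointFree.coe_eq_inv_of_involutive hφ hinv) ⟨x, hx⟩
  exact congrArg Subtype.val h1

theorem simple_of [Nontrivial Q] {a : Q} (haa : a * a = 1) (hperf : commutator Q = ⊤)
    (hcl : ∀ N : Subgroup Q, N.Normal → a ∈ N → N = ⊤)
    (hC : ∀ x, x * a = a * x → ∃ n : ℕ, x ^ (2 ^ n) = 1)
    (S : Sylow 2 Q) (hS : ∀ x ∈ S, (∀ y ∈ S, x * y = y * x) → x = 1 ∨ ∃ g : Q, g * a * g⁻¹ = x) :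
    IsSimpleGroup Q := by
  have : Fact (Nat.Prime 2) := ⟨Nat.prime_two⟩
  refine ⟨fun N hN => ?_⟩
  by_cases h2' : 2 ∣ Nat.card N
  · right
    -- `N ⊓ S ≠ ⊥`
    obtain ⟨x, hx⟩ := exists_prime_orderOf_dvd_card' 2 h2'
    have hxx : (x : Q) ^ 2 = 1 := by
      have := pow_orderOf_eq_one x
      rw [hx] at this
      exact congrArg Subtype.val this
    have hx1 : (x : Q) ≠ 1 := by
      intro h
      have h1 : x = 1 := Subtype.ext h
      rw [h1, orderOf_one] at hx
      exact absurd hx (by norm_num)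
    have hp : IsPGroup 2 (zpowers (x : Q)) := by
      refine IsPGroup.of_card (n := 1) ?_
      rw [Nat.card_zpowers, pow_one]
      exact orderOf_eq_prime hxx hx1
    obtain ⟨T, hT⟩ := hp.exists_le_sylow
    obtain ⟨g, hg⟩ := MulAction.exists_smul_eq Q T S
    have hgx : g * x * g⁻¹ ∈ (S : Subgroup Q) := by
      have h1 : (x : Q) ∈ (T : Subgroup Q) := hT (mem_zpowers _)
      rw [← hg]
      exact ⟨x, h1, rfl⟩
    have hgN : g * x * g⁻¹ ∈ N := hN.conj_mem x x.2 g
    have hne : N.subgroupOf (S : Subgroup Q) ≠ ⊥ := by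
      intro h
      have h1 : (⟨g * x * g⁻¹, hgx⟩ : (S : Subgroup Q)) ∈ N.subgroupOf (S : Subgroup Q) := hgN
      rw [h, mem_bot] at h1
      have h2 : g * x * g⁻¹ = 1 := congrArg Subtype.val h1
      apply hx1
      calc (x : Q) = g⁻¹ * (g * x * g⁻¹) * g := by group
        _ = 1 := by rw [h2]; group
    have hnorm : (N.subgroupOf (S : Subgroup Q)).Normal := hN.subgroupOf _
    obtain ⟨z, hzN, hzc, hz2⟩ := Cfsg.Agent.Transfer.PGroupNormal.exists_mem_inf_center_orderOf S.isPGroup'
      (N.subgroupOf (S : Subgroup Q)) hne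
    have hzN' : (z : Q) ∈ N := hzN
    rcases hS z z.2 (fun y hy => by
      have := mem_center_iff.1 hzc ⟨y, hy⟩
      exact (congrArg Subtype.val this).symm) with h | ⟨g, hg⟩
    · exfalso
      have h1 : z = 1 := Subtype.ext h
      rw [h1, orderOf_one] at hz2
      exact absurd hz2 (by norm_num)
    · apply hcl N hN
      have h1 := hN.conj_mem z hzN' g⁻¹
      rw [← hg] at h1
      have h2 : g⁻¹ * (g * a * g⁻¹) * g⁻¹⁻¹ = a := by group
      rwa [h2] at h1
  · left
    -- involutions conjugate to `a` invert `N`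
    have hinv : ∀ g : Q, ∀ x ∈ N, (g * a * g⁻¹) * x * (g * a * g⁻¹)⁻¹ = x⁻¹ := by
      intro g x hx
      refine inverts hN ?_ ?_ hx
      · calc g * a * g⁻¹ * (g * a * g⁻¹) = g * (a * a) * g⁻¹ := by group
          _ = 1 := by rw [haa]; group
      · intro y hy hya
        have h1 : (g⁻¹ * y * g) * a = a * (g⁻¹ * y * g) := by
          calc (g⁻¹ * y * g) * a = g⁻¹ * (y * (g * a * g⁻¹)) * g := by group
            _ = g⁻¹ * ((g * a * g⁻¹) * y) * g := by rw [hya]
            _ = a * (g⁻¹ * y * g) := by group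
        obtain ⟨n, hn⟩ := hC _ h1
        have h2 : y ^ (2 ^ n) = 1 := by
          have h3 : (g⁻¹ * y * g) ^ (2 ^ n) = g⁻¹ * y ^ (2 ^ n) * g := by
            have := conj_pow (i := 2 ^ n) (a := g⁻¹) (b := y)
            rwa [inv_inv] at this
          rw [h3] at hn
          calc y ^ (2 ^ n) = g * (g⁻¹ * y ^ (2 ^ n) * g) * g⁻¹ := by group
            _ = 1 := by rw [hn]; group
        have h3 : orderOf (⟨y, hy⟩ : N) ∣ 2 ^ n := by
          apply orderOf_dvd_of_pow_eq_one
          exact Subtype.ext h2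
        have h4 : orderOf (⟨y, hy⟩ : N) ∣ Nat.card N := orderOf_dvd_natCard _
        have h5 : Nat.Coprime (2 ^ n) (Nat.card N) :=
          Nat.Coprime.pow_left n ((Nat.Prime.coprime_iff_not_dvd Nat.prime_two).2 h2')
        have h6 : orderOf (⟨y, hy⟩ : N) = 1 := Nat.eq_one_of_dvd_coprimes h5 h3 h4
        exact congrArg Subtype.val (orderOf_eq_one_iff.1 h6)
    -- the centraliser of `N` contains the commutators
    set C : Subgroup Q := centralizer (N : Set Q) with hCdef
    have hCn : C.Normal := by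
      rw [hCdef]
      infer_instance
    have hab : ∀ g : Q, a⁻¹ * (g * a * g⁻¹) ∈ C := by
      intro g
      rw [hCdef, mem_centralizer_iff]
      intro x hx
      have h1 := hinv g x hx
      have h2 : a * x⁻¹ * a⁻¹ = x := by
        have := hinv 1 x⁻¹ (N.inv_mem hx)
        rwa [one_mul, inv_one, mul_one, inv_inv] at this
      have h3 : a⁻¹ * x⁻¹ * a = x := by
        have ha : a⁻¹ = a := inv_eq_of_mul_eq_one_right haa
        rw [ha] at h2 ⊢
        exact h2
      have h4 : (a⁻¹ * (g * a * g⁻¹)) * x * (a⁻¹ * (g * a * g⁻¹))⁻¹ = x := by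
        calc (a⁻¹ * (g * a * g⁻¹)) * x * (a⁻¹ * (g * a * g⁻¹))⁻¹
            = a⁻¹ * ((g * a * g⁻¹) * x * (g * a * g⁻¹)⁻¹) * a := by group
          _ = a⁻¹ * x⁻¹ * a := by rw [h1]
          _ = x := h3
      exact (mul_inv_eq_iff_eq_mul.1 h4).symm
    -- `C ⊔ ⟨a⟩ = ⊤`
    have hD : C ⊔ zpowers a = ⊤ := by
      apply hcl
      · refine ⟨fun x hx g => ?_⟩
        rw [mem_sup_of_normal_left] at hx
        obtain ⟨c, hc, z, hz, rfl⟩ := hx
        obtain ⟨k, rfl⟩ := mem_zpowers_iff.1 hz
        have h1 : g * (c * a ^ k) * g⁻¹ = (g * c * g⁻¹) * (g * a * g⁻¹) ^ k := by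
          rw [conj_zpow]; group
        rw [h1]
        apply mul_mem
        · exact mem_sup_left (hCn.conj_mem c hc g)
        · apply zpow_mem
          have h2 : g * a * g⁻¹ = a * (a⁻¹ * (g * a * g⁻¹)) := by group
          rw [h2]
          exact mul_mem (mem_sup_right (mem_zpowers a)) (mem_sup_left (hab g))
      · exact mem_sup_right (mem_zpowers a)
    have hCtop : C = ⊤ := by
      rw [eq_top_iff, ← hperf, commutator_def, commutator_le]
      intro x _ y _
      have hx : x ∈ C ⊔ zpowers a := by rw [hD]; exact mem_top x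
      have hy : y ∈ C ⊔ zpowers a := by rw [hD]; exact mem_top y
      rw [mem_sup_of_normal_left] at hx hy
      obtain ⟨c, hc, z, hz, rfl⟩ := hx
      obtain ⟨c', hc', z', hz', rfl⟩ := hy
      rw [← QuotientGroup.eq_one_iff]
      have e1 : QuotientGroup.mk' C c = 1 := (QuotientGroup.eq_one_iff _).2 hc
      have e2 : QuotientGroup.mk' C c' = 1 := (QuotientGroup.eq_one_iff _).2 hc'
      obtain ⟨k, rfl⟩ := mem_zpowers_iff.1 hz
      obtain ⟨k', rfl⟩ := mem_zpowers_iff.1 hz'
      rw [commutatorElement_def]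
      show QuotientGroup.mk' C (c * a ^ k * (c' * a ^ k') * (c * a ^ k)⁻¹ * (c' * a ^ k')⁻¹) = 1
      rw [map_mul, map_mul, map_mul, map_inv, map_inv, map_mul, map_mul, map_zpow, map_zpow, e1, e2, one_mul,
        one_mul]
      group
    rw [eq_bot_iff]
    intro x hx
    rw [mem_bot]
    have h1 : a ∈ C := by rw [hCtop]; exact mem_top a
    have h2 := mem_centralizer_iff.1 h1 x hx
    have h3 := hinv 1 x hx
    rw [one_mul, inv_one, mul_one, ← h2, mul_inv_cancel_right] at h3
    -- `x = x⁻¹`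
    have h4 : x ^ 2 = 1 := by rw [pow_two]; nth_rewrite 1 [h3]; exact inv_mul_cancel x
    have h5 : orderOf (⟨x, hx⟩ : N) ∣ 2 := by
      apply orderOf_dvd_of_pow_eq_one
      exact Subtype.ext h4
    have h6 : orderOf (⟨x, hx⟩ : N) ∣ Nat.card N := orderOf_dvd_natCard _
    have h7 : Nat.Coprime 2 (Nat.card N) := (Nat.Prime.coprime_iff_not_dvd Nat.prime_two).2 h2'
    have h8 : orderOf (⟨x, hx⟩ : N) = 1 := Nat.eq_one_of_dvd_coprimes h7 h5 h6
    exact congrArg Subtype.val (orderOf_eq_one_iff.1 h8)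

end Cfsg.Agent.KFacts.ON.SimpleCrit
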