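import Cfsg.Agent.KFacts.ON.Words
import Cfsg.Agent.KFacts.ON.SimpleCrit

/-!
# The subgroup `J = C(v)` of `C(f)` in the presented O'Nan group

`J` is normal of index 2 in `C(f)`, perfect, and `a` lies in no proper normal subgroup.
-/

set_option autoImplicit false
set_option maxRecDepth 100000

namespace Cfsg.Agent.KFacts.ON.Struct

open Subgroup
open Cfsg.Spor (ON)
open Cfsg.Spor.ON (Gen)
open Cfsg.Agent.SporadicB.ON45Word (on)
open Cfsg.Agent.KFacts.MulSpor.ON (w w_append w_one w_cons w_iw iw eqw cj)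
open Cfsg.Agent.KFacts.ON.Cent (hON finite_ON cen card_K0)
open Cfsg.Agent.KFacts.ON.Words
open Cfsg.Agent.ONType
open Cfsg.Agent.ONType.TupK (K0)
open scoped commutatorElement

/-! ### Conjugation on `⟨v⟩` -/

theorem mem_K0 {x : ON} : x ∈ K0 ↔ x * on .f = on .f * x := cen.mem x

theorem d_mem : on .d ∈ K0 := TupS.T0_le TupT0.d_mem
theorem a_mem : on .a ∈ K0 := TupS.T0_le (TupT0.a_mem hs)
theorem c_mem : on .c ∈ K0 := TupS.T0_le TupT0.c_mem
theorem g_mem : on .g ∈ K0 := TupS.T0_le TupT0.g_mem
theorem b_mem : on .b ∈ K0 := TupleClass.b_mem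
theorem f_mem : on .f ∈ K0 := TupS.T0_le (TupT0.f_mem hs)

theorem dd : on .d * on .d = 1 := by
  have h := MulSpor.ON.r_d hs
  simpa [w] using h

theorem aa : on .a * on .a = 1 := TupleClass.aa hs
theorem bb : on .b * on .b = 1 := TupleClass.bb hs
theorem ff : on .f * on .f = 1 := TupleClass.ff hs

theorem conj_v {x : ON} (hx : x ∈ K0) : x * v * x⁻¹ = v ∨ x * v * x⁻¹ = v⁻¹ := by
  rw [← TupleClass.closure_eq] at hx
  induction hx using Subgroup.closure_induction with
  | mem x hx =>
    simp only [Set.mem_insert_iff, Set.mem_singleton_iff] at hx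
    rcases hx with rfl | rfl | rfl | rfl | rfl
    · left; rw [va]; group
    · left; rw [vb]; group
    · left; rw [vc]; group
    · right; exact vd
    · right; exact vg
  | one => left; group
  | mul x y _ _ hx hy =>
    have e : x * y * v * (x * y)⁻¹ = x * (y * v * y⁻¹) * x⁻¹ := by group
    rw [e]
    rcases hy with hy | hy
    · rw [hy]; exact hx
    · rw [hy]
      have e2 : x * v⁻¹ * x⁻¹ = (x * v * x⁻¹)⁻¹ := by group
      rw [e2]
      rcases hx with hx | hx
      · right; rw [hx]
      · left; rw [hx, inv_inv]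
  | inv x _ hx =>
    rcases hx with hx | hx
    · left
      calc x⁻¹ * v * x⁻¹⁻¹ = x⁻¹ * (x * v * x⁻¹) * x := by nth_rewrite 1 [hx]; group
        _ = v := by group
    · right
      have e : v = (x * v * x⁻¹)⁻¹ := by rw [hx, inv_inv]
      calc x⁻¹ * v * x⁻¹⁻¹ = x⁻¹ * ((x * v * x⁻¹)⁻¹) * x := by rw [← e]; group
        _ = v⁻¹ := by group

/-! ### The subgroup `J` -/

/-- the centraliser of `v` -/
def J : Subgroup ON := centralizer ({v} : Set ON)

theorem mem_J {x : ON} : x ∈ J ↔ x * v = v * x := mem_centralizer_singleton_iff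

theorem J_le : J ≤ K0 := by
  intro x hx
  rw [mem_J] at hx
  rw [mem_K0, ← vv]
  calc x * (v * v) = (x * v) * v := by group
    _ = v * x * v := by rw [hx]
    _ = v * (x * v) := by group
    _ = v * v * x := by rw [hx]; group

theorem aJ : on .a ∈ J := mem_J.2 va
theorem bJ : on .b ∈ J := mem_J.2 vb
theorem cJ : on .c ∈ J := mem_J.2 vc
theorem vJ : v ∈ J := mem_J.2 rfl
theorem fJ : on .f ∈ J := by rw [← vv]; exact J.mul_mem vJ vJ

theorem f_ne_one : on .f ≠ 1 := by
  have h : TupRow.neJ [7] [] = true := by decide +kernel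
  have := TupRow.neJ_spec h
  simp only [SporadicRecognition.CosetCert.ev_cons, SporadicRecognition.CosetCert.ev_nil, mul_one] at this
  exact this

theorem v_ne_inv : v ≠ v⁻¹ := by
  intro h
  apply f_ne_one
  rw [← vv]
  nth_rewrite 2 [h]
  exact mul_inv_cancel v

theorem d_not_mem : on .d ∉ J := by
  intro h
  rw [mem_J] at h
  apply v_ne_inv
  rw [← vd, h, mul_inv_cancel_right]

theorem d_inv : (on .d)⁻¹ = on .d := inv_eq_of_mul_eq_one_right dd

theorem mem_J_or {x : ON} (hx : x ∈ K0) : x ∈ J ∨ x * on .d ∈ J := by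
  rcases conj_v hx with h | h
  · left
    rw [mem_J]
    exact mul_inv_eq_iff_eq_mul.1 h
  · right
    rw [mem_J]
    have h1 : x * on .d * v * (x * on .d)⁻¹ = v := by
      calc x * on .d * v * (x * on .d)⁻¹ = x * (on .d * v * (on .d)⁻¹) * x⁻¹ := by group
        _ = (x * v * x⁻¹)⁻¹ := by rw [vd]; group
        _ = v := by rw [h, inv_inv]
    exact mul_inv_eq_iff_eq_mul.1 h1

theorem J_normal {k x : ON} (hk : k ∈ K0) (hx : x ∈ J) : k * x * k⁻¹ ∈ J := by
  rw [mem_J] at hx ⊢
  have e : ∀ u : ON, u = k * v * k⁻¹ → k * x * k⁻¹ * u = u * (k * x * k⁻¹) := by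
    rintro _ rfl
    calc k * x * k⁻¹ * (k * v * k⁻¹) = k * (x * v) * k⁻¹ := by group
      _ = k * (v * x) * k⁻¹ := by rw [hx]
      _ = _ := by group
  rcases conj_v hk with h | h
  · exact e v h.symm
  · have h1 := e v⁻¹ h.symm
    -- commuting with `v⁻¹`
    have h2 := congrArg (fun y => v * y * v) h1
    calc k * x * k⁻¹ * v = v * (v⁻¹ * (k * x * k⁻¹)) * v := by group
      _ = v * (k * x * k⁻¹ * v⁻¹) * v := by rw [h1]
      _ = v * (k * x * k⁻¹) := by group

theorem index_J : (J.subgroupOf K0).index = 2 := by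
  rw [Subgroup.index_eq_two_iff]
  refine ⟨⟨on .d, d_mem⟩, ?_⟩
  rintro ⟨x, hx⟩
  rw [Subgroup.mem_subgroupOf, Subgroup.mem_subgroupOf]
  show Xor' (x * on .d ∈ J) (x ∈ J)
  have hnot : ¬ (x * on .d ∈ J ∧ x ∈ J) := by
    rintro ⟨h2, h3⟩
    apply d_not_mem
    have := J.mul_mem (J.inv_mem h3) h2
    rwa [inv_mul_cancel_left] at this
  rcases mem_J_or hx with h | h
  · exact Or.inr ⟨h, fun h' => hnot ⟨h', h⟩⟩
  · exact Or.inl ⟨h, fun h' => hnot ⟨h, h'⟩⟩

theorem card_J : Nat.card J = 80640 := by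
  have h2 := Subgroup.card_mul_index (J.subgroupOf K0)
  rw [index_J, Nat.card_congr (Subgroup.subgroupOfEquivOfLe J_le).toEquiv, card_K0] at h2
  omega

/-! ### Normal subgroups containing `a` -/

/-- the involution `s` swaps `a` and `af` -/
def s : ON := w [.b, .a, .c, .b, .d, .c, .b, .d, .g, .g, .g, .b, .c, .g, .b]

theorem sJ : s ∈ J := by
  rw [mem_J, s, v, ← w_append, ← w_append]
  exact Words.eq _ _ (by decide +kernel)

theorem sa : s * on .a * s⁻¹ = on .a * on .f := by
  have h : s * w [.a] * s⁻¹ = w [.a, .f] := Words.conj _ _ _ (by decide +kernel)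
  rw [wa, w_cons, w_one] at h
  exact h

theorem ab_conj : (on .a * on .b) * on .a * (on .a * on .b)⁻¹ = on .b := by
  have h : w [.a, .b] * w [.a] * (w [.a, .b])⁻¹ = w [.b] := Words.conj _ _ _ (by decide +kernel)
  rw [wa, wb, w_cons, w_one] at h
  exact h

theorem bc_conj : (on .b * on .c) * on .b * (on .b * on .c)⁻¹ = on .c := by
  have h : w [.b, .c] * w [.b] * (w [.b, .c])⁻¹ = w [.c] := Words.conj _ _ _ (by decide +kernel)
  rw [wb, wc, w_cons, w_one] at h
  exact h

theorem bd_conj : on .d * on .b * (on .d)⁻¹ = on .b := by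
  have h : w [.d] * w [.b] * (w [.d])⁻¹ = w [.b] := Words.conj _ _ _ (by decide +kernel)
  rw [wd, wb] at h
  exact h

theorem ad_conj : on .d * on .a * (on .d)⁻¹ = on .a := by
  have h : w [.d] * w [.a] * (w [.d])⁻¹ = w [.a] := Words.conj _ _ _ (by decide +kernel)
  rw [wd, wa] at h
  exact h

theorem bcdg5 : (on .b * on .c * (on .d * on .g)) ^ 5 = 1 := by
  have h : w [.b, .c, .d, .g, .b, .c, .d, .g, .b, .c, .d, .g, .b, .c, .d, .g, .b, .c, .d, .g] = w [] :=
    Words.eq _ _ (by decide +kernel)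
  simpa [w, pow_succ, mul_assoc] using h

theorem cd4 : (on .c * (on .d * on .c * on .d)) ^ 2 = on .a * on .f := by
  have h : w [.c, .d, .c, .d, .c, .d, .c, .d] = w [.a, .f] := Words.eq _ _ (by decide +kernel)
  simpa [w, pow_succ, mul_assoc] using h

theorem pow_mem_aux {G : Type*} [Group G] {N : Subgroup G} {u n : G} (hu : ∀ x ∈ N, u * x * u⁻¹ ∈ N) (hn : n ∈ N)
    (k : ℕ) : (n * u) ^ k * (u ^ k)⁻¹ ∈ N ∧ u ^ k * n * (u ^ k)⁻¹ ∈ N := by
  induction k with
  | zero => simpa using hn
  | succ k ih =>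
    constructor
    · have e : (n * u) ^ (k + 1) * (u ^ (k + 1))⁻¹ = ((n * u) ^ k * (u ^ k)⁻¹) * (u ^ k * n * (u ^ k)⁻¹) := by
        rw [pow_succ, pow_succ]; group
      rw [e]
      exact N.mul_mem ih.1 ih.2
    · have e : u ^ (k + 1) * n * (u ^ (k + 1))⁻¹ = u * (u ^ k * n * (u ^ k)⁻¹) * u⁻¹ := by
        rw [pow_succ']; group
      rw [e]
      exact hu _ ih.2

theorem J_le_of {N : Subgroup ON} (hNJ : N ≤ J) (hn : ∀ k ∈ K0, ∀ n ∈ N, k * n * k⁻¹ ∈ N) (ha : on .a ∈ N) :
    J ≤ N := by
  have hb : on .b ∈ N := by rw [← ab_conj]; exact hn _ (K0.mul_mem a_mem b_mem) _ ha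
  have hc : on .c ∈ N := by rw [← bc_conj]; exact hn _ (K0.mul_mem b_mem c_mem) _ hb
  have haf : on .a * on .f ∈ N := by rw [← sa]; exact hn _ (J_le sJ) _ ha
  have hf : on .f ∈ N := by
    have := N.mul_mem (N.inv_mem ha) haf
    rwa [inv_mul_cancel_left] at this
  have hdgK : on .d * on .g ∈ K0 := K0.mul_mem d_mem g_mem
  have hdg : on .d * on .g ∈ N := by
    obtain ⟨u, hu⟩ : ∃ u, u = on .d * on .g := ⟨_, rfl⟩
    have h1 := (pow_mem_aux (N := N) (u := on .d * on .g) (n := on .b * on .c) (hn _ hdgK) (N.mul_mem hb hc) 5).1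
    rw [bcdg5, one_mul] at h1
    have h2 := N.inv_mem h1
    rw [inv_inv, pow_succ, dg4] at h2
    have h3 := N.mul_mem (N.inv_mem hf) h2
    rwa [inv_mul_cancel_left] at h3
  have hdN : ∀ x ∈ N, on .d * x * on .d ∈ N := by
    intro x hx
    have := hn _ d_mem _ hx
    rwa [d_inv] at this
  have key : ∀ x ∈ K0, x ∈ N ∨ x * on .d ∈ N := by
    intro x hx
    rw [← TupleClass.closure_eq] at hx
    induction hx using Subgroup.closure_induction with
    | mem x hx =>
      simp only [Set.mem_insert_iff, Set.mem_singleton_iff] at hx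
      rcases hx with rfl | rfl | rfl | rfl | rfl
      · exact Or.inl ha
      · exact Or.inl hb
      · exact Or.inl hc
      · right; rw [dd]; exact N.one_mem
      · right
        have e : on .g * on .d = on .d * (on .d * on .g) * on .d := by
          rw [← mul_assoc (on .d) (on .d), dd, one_mul]
        rw [e]
        exact hdN _ hdg
    | one => exact Or.inl N.one_mem
    | mul x y _ _ hx hy =>
      rcases hx with hx | hx <;> rcases hy with hy | hy
      · exact Or.inl (N.mul_mem hx hy)
      · right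
        rw [mul_assoc]; exact N.mul_mem hx hy
      · right
        have e : x * y * on .d = (x * on .d) * (on .d * y * on .d) := by
          calc x * y * on .d = x * (on .d * on .d) * y * on .d := by rw [dd, mul_one]
            _ = _ := by group
        rw [e]
        exact N.mul_mem hx (hdN _ hy)
      · left
        have e : x * y = (x * on .d) * (on .d * (y * on .d) * on .d) := by
          calc x * y = x * (on .d * on .d) * y * (on .d * on .d) := by rw [dd, mul_one, mul_one]
            _ = _ := by group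
        rw [e]
        exact N.mul_mem hx (hdN _ hy)
    | inv x _ hx =>
      rcases hx with hx | hx
      · exact Or.inl (N.inv_mem hx)
      · right
        have e : x⁻¹ * on .d = on .d * (x * on .d)⁻¹ * on .d := by
          rw [mul_inv_rev, d_inv, ← mul_assoc, dd, one_mul]
        rw [e]
        exact hdN _ (N.inv_mem hx)
  intro x hx
  rcases key x (J_le hx) with h | h
  · exact h
  · exfalso
    apply d_not_mem
    have := J.mul_mem (J.inv_mem hx) (hNJ h)
    rwa [inv_mul_cancel_left] at this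

/-- a subgroup of `J` normalised by `J` and containing `a` is `J` -/
theorem eq_J_of {N : Subgroup ON} (hNJ : N ≤ J) (hn : ∀ k ∈ J, ∀ n ∈ N, k * n * k⁻¹ ∈ N) (ha : on .a ∈ N) :
    N = J := by
  apply le_antisymm hNJ
  set M : Subgroup ON := N ⊓ N.map (MulAut.conj (on .d)).toMonoidHom with hM
  have hmem : ∀ x, x ∈ M ↔ x ∈ N ∧ on .d * x * on .d ∈ N := by
    intro x
    rw [hM, mem_inf]
    refine and_congr_right fun _ => ?_
    constructor
    · rintro ⟨y, hy, rfl⟩
      show on .d * (on .d * y * (on .d)⁻¹) * on .d ∈ N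
      have e : on .d * (on .d * y * (on .d)⁻¹) * on .d = y := by
        rw [d_inv]
        calc on .d * (on .d * y * on .d) * on .d = (on .d * on .d) * y * (on .d * on .d) := by group
          _ = y := by rw [dd, one_mul, mul_one]
      rw [e]; exact hy
    · intro h
      refine ⟨_, h, ?_⟩
      show on .d * (on .d * x * on .d) * (on .d)⁻¹ = x
      rw [d_inv]
      calc on .d * (on .d * x * on .d) * on .d = (on .d * on .d) * x * (on .d * on .d) := by group
        _ = x := by rw [dd, one_mul, mul_one]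
  have hMN : M ≤ N := inf_le_left
  refine (J_le_of (N := M) (hMN.trans hNJ) ?_ ?_).trans hMN
  · -- normalised by `K0`
    have hJ : ∀ k ∈ J, ∀ x ∈ M, k * x * k⁻¹ ∈ M := by
      intro k hk x hx
      rw [hmem] at hx ⊢
      refine ⟨hn k hk x hx.1, ?_⟩
      have hk' : on .d * k * on .d ∈ J := by
        have := J_normal d_mem hk
        rwa [d_inv] at this
      have h1 := hn _ hk' _ hx.2
      have e : on .d * k * on .d * (on .d * x * on .d) * (on .d * k * on .d)⁻¹ =
          on .d * (k * x * k⁻¹) * on .d := by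
        rw [mul_inv_rev, mul_inv_rev, d_inv]
        calc on .d * k * on .d * (on .d * x * on .d) * (on .d * (k⁻¹ * on .d))
            = on .d * k * (on .d * on .d) * x * (on .d * on .d) * k⁻¹ * on .d := by group
          _ = _ := by rw [dd, mul_one, mul_one]; group
      rwa [e] at h1
    have hd : ∀ x ∈ M, on .d * x * on .d ∈ M := by
      intro x hx
      rw [hmem] at hx ⊢
      refine ⟨hx.2, ?_⟩
      have e : on .d * (on .d * x * on .d) * on .d = x := by
        calc on .d * (on .d * x * on .d) * on .d = (on .d * on .d) * x * (on .d * on .d) := by group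
          _ = x := by rw [dd, one_mul, mul_one]
      rw [e]; exact hx.1
    intro k hk x hx
    rcases mem_J_or hk with h | h
    · exact hJ k h x hx
    · have h1 := hJ _ h _ (hd x hx)
      have e : k * on .d * (on .d * x * on .d) * (k * on .d)⁻¹ = k * x * k⁻¹ := by
        rw [mul_inv_rev, d_inv]
        calc k * on .d * (on .d * x * on .d) * (on .d * k⁻¹)
            = k * (on .d * on .d) * x * (on .d * on .d) * k⁻¹ := by group
          _ = _ := by rw [dd, mul_one, mul_one]
      rwa [e] at h1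
  · rw [hmem]
    refine ⟨ha, ?_⟩
    have := ad_conj
    rw [d_inv] at this
    rw [this]; exact ha

/-! ### `J` is perfect -/

theorem perf : ⁅J, J⁆ = J := by
  set D : Subgroup ON := ⁅J, J⁆ with hD
  have hDJ : D ≤ J := by
    rw [hD, commutator_le]
    intro x hx y hy
    exact J.mul_mem (J.mul_mem (J.mul_mem hx hy) (J.inv_mem hx)) (J.inv_mem hy)
  have hcm : ∀ x ∈ J, ∀ y ∈ J, x * y * x⁻¹ * y⁻¹ ∈ D := fun x hx y hy => commutator_mem_commutator hx hy
  have hn : ∀ k ∈ K0, ∀ n ∈ D, k * n * k⁻¹ ∈ D := by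
    intro k hk n hn
    have h1 : D.map (MulAut.conj k).toMonoidHom ≤ D := by
      rw [hD, map_commutator]
      apply commutator_mono
      · rintro _ ⟨x, hx, rfl⟩; exact J_normal hk hx
      · rintro _ ⟨x, hx, rfl⟩; exact J_normal hk hx
    exact h1 ⟨n, hn, rfl⟩
  refine eq_J_of hDJ (fun k hk => hn k (J_le hk)) ?_
  have h1 : on .c * (on .b)⁻¹ ∈ D := by
    have := hcm _ (J.mul_mem bJ cJ) _ bJ
    rwa [bc_conj] at this
  have h2 : (on .d * on .c * on .d) * (on .b)⁻¹ ∈ D := by
    have := hn _ d_mem _ h1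
    have e : on .d * (on .c * (on .b)⁻¹) * (on .d)⁻¹ =
        (on .d * on .c * (on .d)⁻¹) * (on .d * on .b * (on .d)⁻¹)⁻¹ := by group
    rw [e, bd_conj, d_inv] at this
    exact this
  have h3 : on .c * (on .d * on .c * on .d) ∈ D := by
    have hb : (on .b)⁻¹ = on .b := inv_eq_of_mul_eq_one_right bb
    have e : on .c * (on .d * on .c * on .d) =
        (on .c * (on .b)⁻¹) * (on .b * ((on .d * on .c * on .d) * (on .b)⁻¹) * (on .b)⁻¹) * (on .b * on .b) := by
      group
    rw [e, bb, mul_one]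
    exact D.mul_mem h1 (hn _ b_mem _ h2)
  have h4 : on .a * on .f ∈ D := by
    rw [← cd4]
    exact D.pow_mem h3 2
  have h5 : on .a * on .f * (on .a)⁻¹ ∈ D := by
    have := hcm _ sJ _ aJ
    rwa [sa] at this
  have h6 : on .a = (on .a * on .f * (on .a)⁻¹)⁻¹ * (on .a * on .f) := by group
  rw [h6]
  exact D.mul_mem (D.inv_mem h5) h4

/-! ### The centre -/

/-- the centraliser of `J` is `⟨v⟩` -/
theorem cent_J {x : ON} (h : ∀ y ∈ J, x * y = y * x) : x ∈ zpowers v := by
  have hK : x ∈ K0 := mem_K0.2 (h _ fJ)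
  have hT : x ∈ TupT0.T0 := TupK.mem_T0 hs hK (h _ aJ)
  obtain ⟨l, hl, hx⟩ := TupT0.comm_b hs hT (h _ bJ)
  have hcl : TupT0.exA.all (fun l => TupRow.neJ (l ++ [0]) (0 :: l) ||
      ([[], [5, 1, 2, 1, 2], [7], [7, 5, 1, 2, 1, 2]] : List (List ℕ)).any fun u => TupRow.eqJ l u) = true := by
    decide +kernel
  have h1 := List.all_eq_true.1 hcl l hl
  rcases Bool.or_eq_true_iff.1 h1 with h2 | h2
  · exfalso
    apply TupRow.neJ_spec h2
    rw [SporadicRecognition.CosetCert.ev_append, SporadicRecognition.CosetCert.ev_cons,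
      SporadicRecognition.CosetCert.ev_cons, SporadicRecognition.CosetCert.ev_nil, mul_one, ← hx]
    exact h _ cJ
  · obtain ⟨u, hu, h3⟩ := List.any_eq_true.1 h2
    have h4 := TupRow.eqJ_spec hs h3
    rw [← hx] at h4
    have hv : on .a * (on .d * (on .g * (on .d * on .g))) = v := by simp [v, w]
    simp only [List.mem_cons, List.not_mem_nil, or_false] at hu
    rcases hu with rfl | rfl | rfl | rfl
    · rw [h4, SporadicRecognition.CosetCert.ev_nil]; exact one_mem _
    · simp only [SporadicRecognition.CosetCert.ev_cons, SporadicRecognition.CosetCert.ev_nil, mul_one] at h4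
      have h5 : x = v := h4.trans hv
      rw [h5]; exact mem_zpowers v
    · simp only [SporadicRecognition.CosetCert.ev_cons, SporadicRecognition.CosetCert.ev_nil, mul_one] at h4
      have h5 : x = v * v := h4.trans vv.symm
      rw [h5]; exact mul_mem (mem_zpowers v) (mem_zpowers v)
    · simp only [SporadicRecognition.CosetCert.ev_cons, SporadicRecognition.CosetCert.ev_nil, mul_one] at h4
      have h5 : x = v * v * v := by
        rw [h4, vv]
        exact congrArg (on .f * ·) hv
      rw [h5]; exact mul_mem (mul_mem (mem_zpowers v) (mem_zpowers v)) (mem_zpowers v)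

end Cfsg.Agent.KFacts.ON.Struct
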