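import Cfsg.Agent.KFacts.MulSpor.ONWords
import Cfsg.Agent.KFacts.ON.Cent

/-!
# Words in the presented O'Nan group

`v = a (dg)²`, `v² = f`; `J = C(v)`; `E = ⟨f, a, s3⟩`, `s3 = (cdg)²`.
-/

set_option autoImplicit false
set_option maxRecDepth 100000

namespace Cfsg.Agent.KFacts.ON.Words

open Cfsg.Spor (ON)
open Cfsg.Spor.ON (Gen)
open Cfsg.Agent.SporadicB.ON45Word (on)
open Cfsg.Agent.KFacts.MulSpor.ON (w w_append w_one w_cons w_iw iw eqw cj)
open Cfsg.Agent.KFacts.ON.Cent (hON finite_ON cen card_K0)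

theorem hs : IsSimpleGroup ON := hON.1

/-- two words are equal -/
theorem eq (l m : List Gen) (h : MulSpor.ON.okw (l ++ iw m) = true) : w l = w m := eqw hs l m h

/-- conjugation of words -/
theorem conj (u x y : List Gen) (h : MulSpor.ON.okw (u ++ x ++ iw (y ++ u)) = true) :
    w u * w x * (w u)⁻¹ = w y := by
  rw [mul_inv_eq_iff_eq_mul]
  exact cj hs u x y h

def v : ON := w [.a, .d, .g, .d, .g]

def s3 : ON := w [.c, .d, .g, .c, .d, .g]

theorem wa : w [.a] = on .a := w_one _
theorem wb : w [.b] = on .b := w_one _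
theorem wc : w [.c] = on .c := w_one _
theorem wd : w [.d] = on .d := w_one _
theorem we : w [.e] = on .e := w_one _
theorem wf : w [.f] = on .f := w_one _
theorem wg : w [.g] = on .g := w_one _

theorem vv : v * v = on .f := by
  rw [← wf, v, ← w_append]
  exact eq _ _ (by decide +kernel)

theorem va : on .a * v = v * on .a := by
  rw [← wa, v, ← w_append, ← w_append]
  exact eq _ _ (by decide +kernel)

theorem vb : on .b * v = v * on .b := by
  rw [← wb, v, ← w_append, ← w_append]
  exact eq _ _ (by decide +kernel)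

theorem vc : on .c * v = v * on .c := by
  rw [← wc, v, ← w_append, ← w_append]
  exact eq _ _ (by decide +kernel)

theorem vd : on .d * v * (on .d)⁻¹ = v⁻¹ := by
  have h : w [.d] * v * (w [.d])⁻¹ = w (iw [.a, .d, .g, .d, .g]) := by
    rw [v]
    exact conj _ _ _ (by decide +kernel)
  rw [w_iw hs, wd] at h
  exact h

theorem vg : on .g * v * (on .g)⁻¹ = v⁻¹ := by
  have h : w [.g] * v * (w [.g])⁻¹ = w (iw [.a, .d, .g, .d, .g]) := by
    rw [v]
    exact conj _ _ _ (by decide +kernel)
  rw [w_iw hs, wg] at h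
  exact h

theorem dg4 : (on .d * on .g) ^ 4 = on .f := by
  have h : w [.d, .g, .d, .g, .d, .g, .d, .g] = w [.f] := eq _ _ (by decide +kernel)
  simpa [w, pow_succ, mul_assoc] using h

end Cfsg.Agent.KFacts.ON.Words
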